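import Cfsg.Agent.Lib.ClassesLower.Isometry

/-!
The numerical inequalities.
-/

set_option autoImplicit false

namespace CfsgLib.ClassesLower

/-- The exceptional alternative of the invariant carried by the induction. -/
def Special (p k o : ℕ) : Prop :=
  49 * p ≤ 60 * (k + o) ∧ p ^ 2 - 1 ≤ 6 * (k * o) ∧ (o = 1 → p ≤ 23)

/-- The invariant carried by the induction. -/
def Good (p k o : ℕ) : Prop := 2401 * p ^ 2 ≤ 14400 * (k * o) ∨ Special p k o

theorem sum_ge_of_product {p k o : ℕ} (h : 2401 * p ^ 2 ≤ 14400 * (k * o)) : 49 * p ≤ 60 * (k + o) := by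
  refine Nat.mul_self_le_mul_self_iff.mp ?_
  have h1 : 4 * (k * o) ≤ (k + o) * (k + o) := by
    have := four_mul_le_sq_add k o
    nlinarith
  nlinarith

theorem sum_ge_of_good {p k o : ℕ} (h : Good p k o) : 49 * p ≤ 60 * (k + o) :=
  h.elim sum_ge_of_product fun h => h.1

theorem pred_pow_ge {p n : ℕ} (hp : 10 ≤ p) (hn : 2 ≤ n) : 99 * p ^ n ≤ 100 * (p ^ n - 1) := by
  have h : 100 ≤ p ^ n :=
    le_trans (by norm_num) ((Nat.pow_le_pow_left hp 2).trans (Nat.pow_le_pow_right (by omega) hn))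
  omega

/-- The counting inequality gives the product bound. -/
theorem product_of_count {p n k o kC z a q f e W : ℕ} (hp : 11 ≤ p) (hn : 2 ≤ n) (hz : 1 ≤ z) (hK : 0 < e ^ 2 * (f * (a * q)))
    (hk : kC ≤ e * k) (ho : p ^ n - 1 ≤ o * (e * (z * (a * q)))) (hW : z * W ≤ f * kC)
    (h : 2401 * (e ^ 2 * (f * (a * q))) ≤ 14256 * W * p ^ (n - 2)) :
    2401 * p ^ 2 ≤ 14400 * (k * o) := by
  have h1 : z * (W * (p ^ n - 1)) ≤ z * (e ^ 2 * (f * (a * q)) * (k * o)) := by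
    calc z * (W * (p ^ n - 1)) = z * W * (p ^ n - 1) := (mul_assoc _ _ _).symm
      _ ≤ f * (e * k) * (o * (e * (z * (a * q)))) :=
        Nat.mul_le_mul (hW.trans (Nat.mul_le_mul_left f hk)) ho
      _ = _ := by ring
  have h2 := Nat.le_of_mul_le_mul_left h1 hz
  have hpow : p ^ n = p ^ (n - 2) * p ^ 2 := by rw [← pow_add]; congr 1; omega
  have h3 : 2401 * (e ^ 2 * (f * (a * q))) * p ^ 2 ≤ 14400 * (e ^ 2 * (f * (a * q)) * (k * o)) := by
    calc 2401 * (e ^ 2 * (f * (a * q))) * p ^ 2 ≤ 14256 * W * p ^ (n - 2) * p ^ 2 := Nat.mul_le_mul_right _ h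
      _ = 144 * W * (99 * p ^ n) := by rw [hpow]; ring
      _ ≤ 144 * W * (100 * (p ^ n - 1)) := Nat.mul_le_mul_left _ (pred_pow_ge (by omega) hn)
      _ = 14400 * (W * (p ^ n - 1)) := by ring
      _ ≤ _ := Nat.mul_le_mul_left _ h2
  refine Nat.le_of_mul_le_mul_left ?_ hK
  calc e ^ 2 * (f * (a * q)) * (2401 * p ^ 2) = 2401 * (e ^ 2 * (f * (a * q))) * p ^ 2 := by ring
    _ ≤ _ := h3
    _ = _ := by ring

/-- The exceptional plane case. -/
theorem special_plane {p k o z : ℕ} (hp : 11 ≤ p) (hz : z ∣ p - 1) (hk : 4 * z ≤ k)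
    (ho : p ^ 2 - 1 ≤ o * (24 * z)) : Special p k o := by
  have hzle : z ≤ p - 1 := Nat.le_of_dvd (by omega) hz
  have h6 : p ^ 2 - 1 ≤ 6 * (k * o) := by
    refine ho.trans ?_
    calc o * (24 * z) = 6 * (4 * z * o) := by ring
      _ ≤ _ := Nat.mul_le_mul_left _ (Nat.mul_le_mul_right _ hk)
  refine ⟨?_, h6, fun h1 => ?_⟩
  swap
  · subst h1
    have h2 : p ^ 2 ≤ 24 * (p - 1) + 1 := by
      have : 24 * z ≤ 24 * (p - 1) := Nat.mul_le_mul_left _ hzle
      omega
    by_contra hlt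
    have : 24 * p ≤ p ^ 2 := by rw [sq]; exact Nat.mul_le_mul_right _ (by omega)
    omega
  obtain ⟨j, hj⟩ := hz
  have hpj : p = z * j + 1 := by omega
  by_contra hlt
  have hlt' : 60 * (4 * z + o) < 49 * p := by omega
  have hp2 : 1 ≤ p ^ 2 := Nat.one_le_pow _ _ (by omega)
  have hkey : (60 : ℤ) * (96 * (z : ℤ) ^ 2 + (p : ℤ) ^ 2 - 1) + 24 * z ≤ 1176 * p * z := by
    have e1 : ((p : ℤ) ^ 2 - 1) ≤ o * (24 * z) := by
      have := ho
      zify [hp2] at this
      linarith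
    have e2 : (60 : ℤ) * (4 * z + o) + 1 ≤ 49 * p := by exact_mod_cast hlt'
    nlinarith
  have hzpos : (0 : ℤ) < z := by
    rcases Nat.eq_zero_or_pos z with h | h
    · subst h; omega
    · exact_mod_cast h
  have hpoly : (z : ℤ) * (5 * j ^ 2 - 98 * j + 480) + 10 * j - 98 < 0 := by
    subst hpj
    push_cast at hkey
    by_contra h
    nlinarith [mul_nonneg hzpos.le (not_lt.mp h)]
  by_cases hj9 : j ≤ 9
  · by_cases hex : j = 9 ∧ z = 2
    · obtain ⟨rfl, rfl⟩ := hex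
      subst hpj
      norm_num at ho
      omega
    · interval_cases j <;> omega
  · have h10 : (0 : ℤ) ≤ ((j : ℤ) - 10) * (5 * j - 48) := mul_nonneg (by omega) (by omega)
    nlinarith [mul_nonneg hzpos.le h10]

end CfsgLib.ClassesLower
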