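import Cfsg.Agent.Lib.ClassesLower.Count
import Cfsg.Agent.Lib.SolvClass.Decomp

/-!
Orbits and classes of an imprimitive linear group, from those of the stabiliser of a block.
-/

set_option autoImplicit false
set_option linter.unusedSectionVars false
set_option linter.style.haveILetI false

namespace CfsgLib.ClassesLower

open CfsgLib.SolvClass

universe u v w

variable {k : Type w} [Field k] {V : Type v} [AddCommGroup V] [Module k V] [Finite V] {X : Type u} [Group X]
  [Finite X] {ρ : X →* (V ≃ₗ[k] V)} (D : Blocks ρ)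

theorem index_stab_le (e₀ : D.E) : (D.stab e₀).index ≤ D.E.card := by
  rw [Subgroup.index_eq_card]
  refine (Nat.card_le_card_of_injective
    (Quotient.lift (fun g : X => (⟨cjEnd ρ g e₀, D.perm g e₀ e₀.2⟩ : D.E)) fun g h hgh => ?_) ?_).trans
    (le_of_eq (by rw [Nat.card_eq_fintype_card, Fintype.card_coe]))
  · have hm : cjEnd ρ (g⁻¹ * h) e₀ = e₀ := QuotientGroup.leftRel_apply.mp hgh
    refine Subtype.ext ?_
    show cjEnd ρ g e₀ = cjEnd ρ h e₀
    conv_lhs => rw [← hm]
    rw [cjEnd_cjEnd, mul_inv_cancel_left]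
  · intro a b
    induction a using Quotient.inductionOn with | _ g => ?_
    induction b using Quotient.inductionOn with | _ h => ?_
    intro e
    refine QuotientGroup.eq.mpr ?_
    show cjEnd ρ (g⁻¹ * h) e₀ = e₀
    have e' : cjEnd ρ g e₀ = cjEnd ρ h e₀ := congrArg Subtype.val e
    rw [← cjEnd_cjEnd, ← e', cjEnd_cjEnd, inv_mul_cancel, cjEnd_one]

/-- Multisets of orbits on a block give orbits. -/
theorem multichoose_le_orbits (e₀ : D.E) (htr : ∀ f ∈ D.E, ∃ g, cjEnd ρ g e₀ = f) :
    (numOrb (D.res e₀) + 1).multichoose D.E.card ≤ numOrb ρ + 1 := by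
  classical
  let S := D.stab e₀
  let W := LinearMap.range (e₀ : Module.End k V)
  let lab : W → Set W := fun w => Set.range fun g : S => D.res e₀ g w
  let L := Set.range lab
  have := Fintype.ofFinite L
  choose g hg using fun e : D.E => htr e e.2
  have hmove : ∀ (e : D.E) (v : V), ρ (g e) ((e₀ : Module.End k V) v) = (e : Module.End k V) (ρ (g e) v) := by
    intro e v
    rw [← hg e, cjEnd_apply]
    simp [← LinearEquiv.mul_apply, ← map_mul]
  let c : D.E → V → W := fun e v => ⟨(e₀ : Module.End k V) (ρ (g e)⁻¹ v), _, rfl⟩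
  let M : V → Sym L D.E.card := fun v =>
    ⟨(Finset.univ : Finset D.E).val.map fun e => (⟨lab (c e v), _, rfl⟩ : L), by
      rw [Multiset.card_map, Finset.card_val, Finset.card_univ, Fintype.card_coe]⟩
  have hinv : ∀ x v, M (ρ x v) = M v := by
    intro x v
    refine Subtype.ext ?_
    show (Finset.univ : Finset D.E).val.map (fun e => (⟨lab (c e (ρ x v)), _, rfl⟩ : L)) = _
    refine (congrArg (Multiset.map _) (congrArg Finset.val (Finset.map_univ_equiv (D.permHom x)).symm)).trans ?_
    rw [Finset.map_val, Multiset.map_map]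
    refine Multiset.map_congr rfl fun e _ => Subtype.ext ?_
    show lab (c (D.permHom x e) (ρ x v)) = lab (c e v)
    set e' := D.permHom x e with he'
    have hd : (g e')⁻¹ * x * g e ∈ S := by
      show cjEnd ρ ((g e')⁻¹ * x * g e) e₀ = e₀
      have h2 : cjEnd ρ x (e : Module.End k V) = e' := rfl
      rw [← cjEnd_cjEnd, hg e, ← cjEnd_cjEnd, h2, ← hg e', cjEnd_cjEnd, inv_mul_cancel, cjEnd_one]
    have h1 : c e' (ρ x v) = D.res e₀ ⟨_, hd⟩ (c e v) := by
      refine Subtype.ext ?_
      rw [Blocks.res_apply]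
      show (e₀ : Module.End k V) (ρ (g e')⁻¹ (ρ x v)) = _
      rw [← Blocks.commute_of_stab (show cjEnd ρ ((g e')⁻¹ * x * g e) e₀ = e₀ from hd), ← LinearEquiv.mul_apply,
        ← map_mul, ← LinearEquiv.mul_apply, ← map_mul]
      congr 3
      group
    rw [h1]
    ext w
    constructor
    · rintro ⟨y, rfl⟩
      exact ⟨y * ⟨_, hd⟩, by simp [map_mul]⟩
    · rintro ⟨y, rfl⟩
      exact ⟨y * ⟨_, hd⟩⁻¹, by simp [← LinearEquiv.mul_apply, ← map_mul]⟩
  have hsurj : Function.Surjective M := by
    rintro ⟨m, hm⟩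
    obtain ⟨l, rfl⟩ : ∃ l : List L, (l : Multiset L) = m := Quot.exists_rep m
    rw [Multiset.coe_card] at hm
    let i : D.E ≃ Fin l.length := Fintype.equivFinOfCardEq (by rw [Fintype.card_coe, hm])
    choose w hw using fun e : D.E => (l.get (i e)).2
    refine ⟨∑ e : D.E, ρ (g e) (w e), Subtype.ext ?_⟩
    show (Finset.univ : Finset D.E).val.map (fun e => (⟨lab (c e _), _, rfl⟩ : L)) = (l : Multiset L)
    have hc : ∀ e, c e (∑ e' : D.E, ρ (g e') (w e')) = w e := fun e => by
      refine Subtype.ext ((ρ (g e)).injective ?_)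
      show ρ (g e) ((e₀ : Module.End k V) (ρ (g e)⁻¹ _)) = ρ (g e) (w e)
      rw [hmove, ← LinearEquiv.mul_apply (ρ (g e)), ← map_mul, mul_inv_cancel, map_one, LinearEquiv.coe_one,
        id_eq, map_sum]
      have hfix : ∀ e' : D.E, (e' : Module.End k V) (ρ (g e') (w e')) = ρ (g e') (w e') := fun e' => by
        obtain ⟨x, hx⟩ := (w e').2
        rw [← hx, hmove]
        exact LinearMap.congr_fun (D.idem e' e'.2) _
      rw [Finset.sum_eq_single e]
      · exact hfix e
      · intro e' _ hne
        rw [← hfix e', ← Module.End.mul_apply, D.orth e e.2 e' e'.2 fun h => hne (Subtype.ext h).symm]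
        rfl
      · exact fun h => absurd (Finset.mem_univ e) h
    have e1 : (Finset.univ : Finset D.E).val.map (fun e => (⟨lab (c e (∑ e' : D.E, ρ (g e') (w e'))), _, rfl⟩ : L))
        = (Finset.univ : Finset D.E).val.map (fun e => l.get (i e)) :=
      Multiset.map_congr rfl fun e _ => Subtype.ext (by rw [← hw e]; exact congrArg lab (hc e))
    rw [e1, show (fun e => l.get (i e)) = l.get ∘ i from rfl, ← Multiset.map_map]
    rw [← show (Finset.univ.map i.toEmbedding).val = (Finset.univ : Finset D.E).val.map i from Finset.map_val _ _,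
      Finset.map_univ_equiv]
    simp [Fin.univ_val_map]
  -- the orbits, with the zero vector
  let O := Set.range fun v : V => Set.range fun x => ρ x v
  have hOcard : Nat.card O ≤ numOrb ρ + 1 := by
    rw [Nat.card_coe_set_eq]
    refine (Set.ncard_le_ncard (t := insert {0} (orbSet ρ)) ?_ (Set.toFinite _)).trans (Set.ncard_insert_le _ _)
    rintro _ ⟨v, rfl⟩
    by_cases hv : v = 0
    · subst hv
      exact Set.mem_insert_iff.mpr (Or.inl (by ext; simp [eq_comm]))
    · exact Set.mem_insert_of_mem _ ⟨v, hv, rfl⟩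
  let Mo : O → Sym L D.E.card := fun o => M o.2.choose
  have hMo : Function.Surjective Mo := fun m => by
    obtain ⟨v, rfl⟩ := hsurj m
    refine ⟨⟨_, v, rfl⟩, ?_⟩
    have h := (show (⟨Set.range fun x => ρ x v, v, rfl⟩ : O).1 ∈ O from ⟨v, rfl⟩).choose_spec
    obtain ⟨x, hx⟩ := (Set.ext_iff.mp h v).mpr ⟨1, by simp⟩
    show M _ = M v
    exact (hinv x _).symm.trans (congrArg M hx)
  haveI : Finite L := inferInstance
  have hL : Fintype.card L = numOrb (D.res e₀) + 1 := by
    have hnot : ({0} : Set W) ∉ orbSet (D.res e₀) := by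
      rintro ⟨v, hv, he⟩
      refine hv ?_
      have : v ∈ Set.range fun g : S => D.res e₀ g v := ⟨1, by simp⟩
      rw [show (Set.range fun g : S => D.res e₀ g v) = {0} from he] at this
      exact this
    rw [numOrb, ← Set.ncard_insert_of_notMem hnot (Set.toFinite _), ← Nat.card_eq_fintype_card, Nat.card_coe_set_eq]
    congr 1
    ext T
    constructor
    · rintro ⟨w, rfl⟩
      by_cases hw : w = 0
      · subst hw
        exact Set.mem_insert_iff.mpr (Or.inl (by ext; simp [lab, eq_comm]))
      · exact Set.mem_insert_of_mem _ ⟨w, hw, rfl⟩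
    · rintro (rfl | ⟨w, -, rfl⟩)
      · exact ⟨0, by ext; simp [lab, eq_comm]⟩
      · exact ⟨w, rfl⟩
  refine le_trans ?_ hOcard
  refine le_trans (le_of_eq ?_) (Nat.card_le_card_of_surjective _ hMo)
  rw [Nat.card_eq_fintype_card, Sym.card_sym_eq_multichoose, hL]

end CfsgLib.ClassesLower
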