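import Cfsg.Agent.Lib.SolvClass.Decomp

/-!
The blocks of an abelian normal subgroup lie in its algebra.
-/

set_option autoImplicit false
set_option linter.unusedSectionVars false
set_option linter.style.haveILetI false

namespace CfsgLib.ClassesLower

open CfsgLib.SolvClass

universe u v w

variable {k : Type w} [Field k] {V : Type v} [AddCommGroup V] [Module k V] {G : Type u} [Group G]
  (ρ : G →* (V ≃ₗ[k] V))

/-- `SolvClass.exists_blocks`, recording that the blocks lie in the algebra. -/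
theorem exists_blocks_mem [Finite G] [FiniteDimensional k V] {A : Subgroup G} [A.Normal]
    (hA : ∀ a ∈ A, ∀ b ∈ A, a * b = b * a) (hco : (Nat.card A : k) ≠ 0) :
    (∀ x ∈ alg ρ A, x ≠ 0 → ∃ y ∈ alg ρ A, x * y = 1) ∨
      ∃ D : Blocks ρ, 2 ≤ D.E.card ∧ (∀ e ∈ D.E, e ∈ alg ρ A) ∧
        ((∀ U : Submodule k V, (∀ g, ∀ x ∈ U, ρ g x ∈ U) → U = ⊥ ∨ U = ⊤) →
          ∀ e ∈ D.E, ∀ f ∈ D.E, ∃ g, cjEnd ρ g e = f) := by
  classical
  by_cases hfield : ∀ x ∈ alg ρ A, x ≠ 0 → ∃ y ∈ alg ρ A, x * y = 1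
  · exact Or.inl hfield
  refine Or.inr ?_
  push Not at hfield
  obtain ⟨x, hx, hx0, hxinv⟩ := hfield
  obtain ⟨y, hy, hxyx⟩ := alg_regular ρ hA hco hx
  -- a nontrivial idempotent, of minimal rank
  have hex : ∃ m, ∃ e ∈ alg ρ A, e * e = e ∧ e ≠ 0 ∧ e ≠ 1 ∧ Module.finrank k (LinearMap.range e) = m := by
    refine ⟨_, x * y, mul_mem hx hy, ?_, fun e => hx0 ?_, hxinv y hy, rfl⟩
    · rw [← mul_assoc, hxyx]
    · rw [← hxyx, e, zero_mul]
  obtain ⟨e, heA, hee, he0, he1, hem⟩ := Nat.find_spec hex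
  have hmin : ∀ f ∈ alg ρ A, f * f = f → f * e = f → f ≠ 0 → f = e := by
    intro f hfA hff hfe hf0
    by_contra hne
    have hef : e * f = f := by rw [alg_comm ρ hA heA hfA, hfe]
    have hle : LinearMap.range f ≤ LinearMap.range e := by
      rintro _ ⟨v, rfl⟩
      exact ⟨f v, LinearMap.congr_fun hef v⟩
    have hf1 : f ≠ 1 := fun h => he1 (by rw [h, one_mul] at hfe; exact hfe)
    have hge : Module.finrank k (LinearMap.range e) ≤ Module.finrank k (LinearMap.range f) :=
      hem ▸ Nat.find_min' hex ⟨f, hfA, hff, hf0, hf1, rfl⟩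
    have heq := Submodule.eq_of_le_of_finrank_le hle hge
    refine hne (LinearMap.ext fun v => ?_)
    obtain ⟨w, hw⟩ : e v ∈ LinearMap.range f := heq ▸ LinearMap.mem_range_self e v
    calc f v = (f * e) v := by rw [hfe]
      _ = f (e v) := rfl
      _ = f (f w) := by rw [hw]
      _ = (f * f) w := rfl
      _ = e v := by rw [hff, hw]
  have := Fintype.ofFinite G
  let O : Finset (Module.End k V) := Finset.univ.image fun g => cjEnd ρ g e
  have hOmem : ∀ {f}, f ∈ O → ∃ g, cjEnd ρ g e = f := fun {f} hf => by simpa [O] using hf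
  have hOA : ∀ f ∈ O, f ∈ alg ρ A := fun f hf => by
    obtain ⟨g, rfl⟩ := hOmem hf
    exact cjEnd_mem_alg ρ g heA
  have hOidem : ∀ f ∈ O, f * f = f := fun f hf => by
    obtain ⟨g, rfl⟩ := hOmem hf
    rw [← cjEnd_mul, hee]
  have hcj0 : ∀ g, ∀ z : Module.End k V, cjEnd ρ g z = 0 → z = 0 := fun g z hz => by
    have h := congrArg (cjEnd ρ g⁻¹) hz
    rw [cjEnd_cjEnd, inv_mul_cancel, cjEnd_one] at h
    rw [h]; simp [cjEnd]
  have hO0 : ∀ f ∈ O, f ≠ 0 := fun f hf h => by
    obtain ⟨g, rfl⟩ := hOmem hf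
    exact he0 (hcj0 g e h)
  -- distinct conjugates are orthogonal
  have horth1 : ∀ f ∈ O, e ≠ f → e * f = 0 := by
    intro f hf hne
    by_contra hne0
    have hfA := hOA f hf
    have hc := alg_comm ρ hA heA hfA
    have h1 : e * f = e := by
      refine hmin _ (mul_mem heA hfA) ?_ ?_ hne0
      · rw [mul_assoc, ← mul_assoc f e f, ← hc, mul_assoc e f f, hOidem f hf, ← mul_assoc, hee]
      · rw [mul_assoc, ← hc, ← mul_assoc, hee]
    obtain ⟨g, hg⟩ := hOmem hf
    -- transported to `f`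
    have h2 : cjEnd ρ g⁻¹ e = e := by
      refine hmin _ (cjEnd_mem_alg ρ _ heA) (by rw [← cjEnd_mul, hee]) ?_ fun h => he0 (hcj0 _ _ h)
      have h3 := congrArg (cjEnd ρ g⁻¹) h1
      rw [cjEnd_mul, ← hg, cjEnd_cjEnd, inv_mul_cancel, cjEnd_one] at h3
      exact h3
    apply hne
    have h4 := congrArg (cjEnd ρ g) h2
    rw [cjEnd_cjEnd, mul_inv_cancel, cjEnd_one, hg] at h4
    exact h4
  have horth : ∀ f ∈ O, ∀ f' ∈ O, f ≠ f' → f * f' = 0 := by
    intro f hf f' hf' hne
    obtain ⟨g, rfl⟩ := hOmem hf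
    obtain ⟨g', rfl⟩ := hOmem hf'
    have h : e * cjEnd ρ (g⁻¹ * g') e = 0 := by
      refine horth1 _ (Finset.mem_image.mpr ⟨_, Finset.mem_univ _, rfl⟩) fun h => hne ?_
      conv_lhs => rw [h]
      rw [cjEnd_cjEnd, mul_inv_cancel_left]
    have h' := congrArg (cjEnd ρ g) h
    rw [cjEnd_mul, cjEnd_cjEnd, mul_inv_cancel_left] at h'
    rw [h']; simp [cjEnd]
  set s := ∑ f ∈ O, f with hs
  have hsf : ∀ f ∈ O, s * f = f ∧ f * s = f := by
    intro f hf
    constructor
    · rw [hs, Finset.sum_mul, Finset.sum_eq_single f (fun b hb hbf => horth b hb f hf hbf)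
        fun h => absurd hf h, hOidem f hf]
    · rw [hs, Finset.mul_sum, Finset.sum_eq_single f (fun b hb hbf => horth f hf b hb (Ne.symm hbf))
        fun h => absurd hf h, hOidem f hf]
  have hss : s * s = s := by
    conv_rhs => rw [hs]
    conv_lhs => arg 2; rw [hs]
    rw [Finset.mul_sum]
    exact Finset.sum_congr rfl fun f hf => (hsf f hf).1
  have hperm : ∀ g, ∀ f ∈ O, cjEnd ρ g f ∈ O := fun g f hf => by
    obtain ⟨g', rfl⟩ := hOmem hf
    exact Finset.mem_image.mpr ⟨g * g', Finset.mem_univ _, (cjEnd_cjEnd ρ g g' e).symm⟩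
  have hcs : ∀ g, cjEnd ρ g s = s := by
    intro g
    have hbij : O.image (cjEnd ρ g) = O := Finset.eq_of_subset_of_card_le
      (fun f hf => by obtain ⟨f', hf', rfl⟩ := Finset.mem_image.mp hf; exact hperm g f' hf')
      (le_of_eq (Finset.card_image_of_injective _ fun a b h => by
        have h' := congrArg (cjEnd ρ g⁻¹) h
        rwa [cjEnd_cjEnd, cjEnd_cjEnd, inv_mul_cancel, cjEnd_one, cjEnd_one] at h').symm)
    conv_rhs => rw [hs, ← hbij]
    rw [Finset.sum_image fun a _ b _ h => by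
      have h' := congrArg (cjEnd ρ g⁻¹) h
      rwa [cjEnd_cjEnd, cjEnd_cjEnd, inv_mul_cancel, cjEnd_one, cjEnd_one] at h']
    rw [hs]
    simp only [cjEnd, Finset.mul_sum, Finset.sum_mul]
  have heO : e ∈ O := Finset.mem_image.mpr ⟨1, Finset.mem_univ _, cjEnd_one ρ e⟩
  by_cases hs1 : s = 1
  · refine ⟨⟨O, hOidem, horth, hs1, hO0, hperm⟩, ?_, hOA, fun _ f hf f' hf' => ?_⟩
    · show 2 ≤ O.card
      by_contra hlt
      have h1 : O = {e} := Finset.eq_singleton_iff_unique_mem.mpr
        ⟨heO, fun f hf => Finset.card_le_one.mp (by omega) f hf e heO⟩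
      exact he1 (by rw [← hs1, hs, h1, Finset.sum_singleton])
    · obtain ⟨g, rfl⟩ := hOmem hf
      obtain ⟨g', rfl⟩ := hOmem hf'
      exact ⟨g' * g⁻¹, by rw [cjEnd_cjEnd, inv_mul_cancel_right]⟩
  · have hr : ∀ f ∈ O, (1 - s) * f = 0 ∧ f * (1 - s) = 0 := fun f hf => by
      rw [sub_mul, mul_sub, one_mul, mul_one, (hsf f hf).1, (hsf f hf).2, sub_self]; exact ⟨rfl, rfl⟩
    have hr0 : (1 : Module.End k V) - s ≠ 0 := sub_ne_zero.mpr (Ne.symm hs1)
    have hrr : (1 - s) * (1 - s) = 1 - s := by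
      rw [sub_mul, mul_sub, mul_sub, one_mul, one_mul, mul_one, hss]; abel
    have hrO : (1 - s) ∉ O := fun h => hr0 (by
      have := (hr _ h).1
      rwa [hrr] at this)
    refine ⟨⟨insert (1 - s) O, ?_, ?_, ?_, ?_, ?_⟩, ?_, ?_, fun hirr => ?_⟩
    · intro f hf
      rcases Finset.mem_insert.mp hf with rfl | hf
      · exact hrr
      · exact hOidem f hf
    · intro f hf f' hf' hne
      rcases Finset.mem_insert.mp hf with rfl | hf <;> rcases Finset.mem_insert.mp hf' with rfl | hf'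
      · exact absurd rfl hne
      · exact (hr f' hf').1
      · exact (hr f hf).2
      · exact horth f hf f' hf' hne
    · rw [Finset.sum_insert hrO, ← hs, sub_add_cancel]
    · intro f hf
      rcases Finset.mem_insert.mp hf with rfl | hf
      · exact hr0
      · exact hO0 f hf
    · intro g f hf
      rcases Finset.mem_insert.mp hf with rfl | hf
      · refine Finset.mem_insert.mpr (Or.inl ?_)
        have h1 : cjEnd ρ g 1 = 1 := LinearMap.ext fun v => by
          simp [cjEnd_apply, ← LinearEquiv.mul_apply, ← map_mul]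
        conv_rhs => rw [← hcs g, ← h1]
        simp [cjEnd, mul_sub, sub_mul]
      · exact Finset.mem_insert_of_mem (hperm g f hf)
    · show 2 ≤ (insert (1 - s) O).card
      rw [Finset.card_insert_of_notMem hrO]
      have : 0 < O.card := Finset.card_pos.mpr ⟨e, heO⟩
      omega
    · intro f hf
      rcases Finset.mem_insert.mp hf with rfl | hf
      · exact sub_mem (one_mem _) (hs ▸ sum_mem hOA)
      · exact hOA f hf
    · -- an invariant image
      exfalso
      rcases hirr (LinearMap.range s) (fun g v hv => by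
          obtain ⟨w, rfl⟩ := hv
          refine ⟨ρ g w, ?_⟩
          conv_lhs => rw [← hcs g]
          simp [cjEnd_apply, ← LinearEquiv.mul_apply, ← map_mul]) with h | h
      · refine he0 ?_
        rw [← (hsf e heO).1, LinearMap.range_eq_bot.mp h, zero_mul]
      · refine hs1 (LinearMap.ext fun v => ?_)
        obtain ⟨w, rfl⟩ : v ∈ LinearMap.range s := h ▸ Submodule.mem_top
        exact LinearMap.congr_fun hss w

end CfsgLib.ClassesLower
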