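import Cfsg.Agent.Lib.SolvClass.Count

/-!
Orders of groups of automorphisms preserving a pairing on an arbitrary finite abelian group.
-/

set_option autoImplicit false
set_option linter.unusedSectionVars false
set_option linter.style.haveILetI false

namespace CfsgLib.ClassesLower

open CfsgLib.SolvClass

universe u v w

/-- The product `s * (s / 2) * (s / 4) * ...`, with at most `n` factors. -/
def gbd : ℕ → ℕ → ℕ
  | 0, _ => 1
  | n + 1, s => if s ≤ 1 then 1 else s * gbd n (s / 2)

theorem one_le_gbd : ∀ n s, 1 ≤ gbd n s := by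
  intro n
  induction n with
  | zero => intro s; exact le_refl 1
  | succ n ih =>
    intro s
    simp only [gbd]
    split_ifs with h
    · exact le_refl 1
    · exact Nat.mul_pos (by omega) (ih _)

theorem gbd_mono : ∀ n {s t : ℕ}, s ≤ t → gbd n s ≤ gbd n t := by
  intro n
  induction n with
  | zero => intro s t _; exact le_refl 1
  | succ n ih =>
    intro s t h
    by_cases hs : s ≤ 1
    · simp only [gbd, if_pos hs]
      exact one_le_gbd (n + 1) t
    · simp only [gbd, if_neg hs, if_neg (by omega : ¬ t ≤ 1)]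
      exact Nat.mul_le_mul h (ih (Nat.div_le_div_right h))

theorem gbd_le_pow : ∀ n {s : ℕ}, s ≤ 2 ^ n → gbd n s ≤ 2 ^ (n + 1).choose 2 := by
  intro n
  induction n with
  | zero => intro s _; simp [gbd]
  | succ n ih =>
    intro s h
    simp only [gbd]
    split_ifs with h1
    · exact Nat.one_le_two_pow
    · rw [Nat.choose_succ_succ, Nat.choose_one_right, pow_add]
      exact Nat.mul_le_mul h (ih (by rw [pow_succ] at h; omega))

variable {A : Type v} [CommGroup A] [Finite A] {k : Type w} [Field k] (ω : Pairing A k)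
  {Y : Type u} [Group Y] [Finite Y] (ρ : Y →* MulAut A)

/-- Automorphisms of a group of order at most `2 ^ n` preserving a pairing. -/
theorem card_isometries_le {n : ℕ} (hA : Nat.card A ≤ 2 ^ n) (hinj : Function.Injective ρ)
    (hω : ∀ y a b, ω.toFun (ρ y a) (ρ y b) = ω.toFun a b) : Nat.card Y ≤ gbd n (Nat.card A) := by
  classical
  let Fx : Subgroup A → Subgroup Y := fun T =>
    { carrier := {y | ∀ t ∈ T, ρ y t = t}
      mul_mem' := fun {x y} hx hy t ht => by rw [map_mul, MulAut.mul_apply, hy t ht, hx t ht]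
      one_mem' := fun t _ => by rw [map_one]; rfl
      inv_mem' := fun {x} hx t ht => by
        conv_lhs => rw [← hx t ht]
        rw [map_inv]; exact (ρ x).symm_apply_apply t }
  have hfull : Fx ⊤ = ⊥ := (Subgroup.eq_bot_iff_forall _).mpr fun y hy => hinj (MulEquiv.ext fun a => by
    rw [map_one]; exact hy a (Subgroup.mem_top a))
  have hstep : ∀ (c : ℕ) (T : Subgroup A) (s : ℕ), s ≤ 2 ^ c → s * Nat.card T = Nat.card A →
      Nat.card (Fx T) ≤ gbd c s := by
    intro c
    induction c with
    | zero =>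
      intro T s hs hsT
      have : T = ⊤ := Subgroup.eq_top_of_le_card _ (by
        rw [← hsT]; exact le_trans (Nat.mul_le_mul_right _ hs) (by simp))
      rw [this, hfull, Subgroup.card_bot]
      exact le_refl 1
    | succ c ih =>
      intro T s hs hsT
      by_cases htop : T = ⊤
      · rw [htop, hfull, Subgroup.card_bot]
        exact one_le_gbd _ _
      obtain ⟨a, ha⟩ := SetLike.exists_not_mem_of_ne_top T htop
      let O : Set A := (fun b => a * b) '' (ω.perp T : Set A)
      have hTpos : 0 < Nat.card T := Nat.card_pos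
      have hO : Nat.card O ≤ s := by
        refine (Nat.card_image_le (Set.toFinite _)).trans ?_
        refine Nat.le_of_mul_le_mul_right ?_ hTpos
        exact (ω.card_perp_mul T).le.trans hsT.ge
      have horb : ∀ y ∈ Fx T, ρ y a ∈ O := fun y hy => ⟨a⁻¹ * ρ y a, fun t ht => by
        rw [ω.mul_left, show ω.toFun a⁻¹ t = (ω.toFun a t)⁻¹ from map_inv (ω.left t) a]
        conv_lhs => arg 2; rw [← hy t ht]
        rw [hω, inv_mul_cancel], mul_inv_cancel_left _ _⟩
      obtain ⟨r, hr⟩ := Subgroup.card_dvd_of_le (le_sup_left : T ≤ T ⊔ Subgroup.zpowers a)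
      have hr2 : 2 ≤ r := by
        rcases r with _ | _ | r
        · rw [mul_zero] at hr; exact absurd hr Nat.card_pos.ne'
        · refine absurd ?_ ha
          rw [Subgroup.eq_of_le_of_card_ge (le_sup_left : T ≤ T ⊔ Subgroup.zpowers a) (le_of_eq (by omega))]
          exact Subgroup.mem_sup_right (Subgroup.mem_zpowers a)
        · omega
      obtain ⟨s', hs'⟩ := Subgroup.card_subgroup_dvd_card (T ⊔ Subgroup.zpowers a)
      have hss : s' * r = s := by
        refine Nat.eq_of_mul_eq_mul_right hTpos ?_
        rw [hsT, hs', hr]; ring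
      have hs2 : s' ≤ s / 2 := by
        rw [Nat.le_div_iff_mul_le two_pos, ← hss]
        exact Nat.mul_le_mul_left _ hr2
      have hApos : 0 < Nat.card A := Nat.card_pos
      have hs1 : ¬ s ≤ 1 := by
        intro h
        have h' : s' = 0 := by omega
        rw [h', zero_mul] at hss
        rw [← hss, zero_mul] at hsT
        omega
      simp only [gbd, if_neg hs1]
      refine (card_stab_orbit ρ (Fx T) a O horb).trans (Nat.mul_le_mul hO ?_)
      refine le_trans ?_ ((ih (T ⊔ Subgroup.zpowers a) s' (by rw [pow_succ] at hs; omega)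
        (by rw [hs', mul_comm])).trans (gbd_mono c hs2))
      refine Nat.card_le_card_of_injective (fun y => (⟨(y.1 : Y), ?_⟩ : Fx (T ⊔ Subgroup.zpowers a))) ?_
      · intro t ht
        obtain ⟨x, hx, z, hz, rfl⟩ := Subgroup.mem_sup.mp ht
        obtain ⟨i, rfl⟩ := hz
        rw [map_mul, map_zpow, y.1.2 x hx, y.2]
      · intro x y e
        exact Subtype.ext (Subtype.ext (congrArg Subtype.val e :))
  have h := hstep n ⊥ (Nat.card A) hA (by rw [Subgroup.card_bot, mul_one])
  refine le_trans ?_ h
  exact Nat.card_le_card_of_injective (fun y => (⟨y, fun t ht => by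
    rw [Subgroup.mem_bot.mp ht]; exact map_one _⟩ : Fx ⊥)) fun x y e => congrArg Subtype.val e

/-- The inequalities for large degrees, as a table. -/
theorem arith_table : ∀ f < 64,
    (11 ≤ f → 2401 * (f * f * gbd 12 (f * f)) ≤ 14256 * 11 ^ (f - 2)) ∧
      (2 ≤ f → 9604 * (f * f * gbd 12 (f * f)) ≤ 14256 * 11 ^ (2 * f - 2)) := by
  decide +kernel

theorem arith_large {f : ℕ} (hf : 64 ≤ f) :
    f * f * gbd (2 * (Nat.log 2 f + 1)) (f * f) ≤ 11 ^ (f - 2) := by
  set L := Nat.log 2 f with hL
  have hL6 : 6 ≤ L := Nat.le_log_of_pow_le one_lt_two (le_trans (by norm_num) hf)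
  have hlt : f ≤ 2 ^ (L + 1) := (Nat.lt_pow_succ_log_self one_lt_two f).le
  have hge : 2 ^ L ≤ f := Nat.pow_log_le_self 2 (by omega)
  have hff : f * f ≤ 2 ^ (2 * (L + 1)) := by
    rw [two_mul, pow_add]; exact Nat.mul_le_mul hlt hlt
  have key : ∀ m, 6 ≤ m → (m + 1) * (2 * m + 5) + 6 ≤ 3 * 2 ^ m := by
    intro m hm
    induction m, hm using Nat.le_induction with
    | base => norm_num
    | succ m hm ih => rw [pow_succ]; nlinarith
  have hk := key L hL6
  calc f * f * gbd (2 * (L + 1)) (f * f) ≤ 2 ^ (2 * (L + 1)) * 2 ^ (2 * (L + 1) + 1).choose 2 :=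
        Nat.mul_le_mul hff (gbd_le_pow _ hff)
    _ = 2 ^ ((L + 1) * (2 * L + 5)) := by
        rw [← pow_add]
        congr 1
        rw [Nat.choose_two_right, Nat.add_sub_cancel, mul_left_comm, Nat.mul_div_cancel_left _ two_pos]
        ring
    _ ≤ 2 ^ (3 * (f - 2)) := Nat.pow_le_pow_right two_pos (by omega)
    _ = 8 ^ (f - 2) := by rw [pow_mul]; norm_num
    _ ≤ 11 ^ (f - 2) := Nat.pow_le_pow_left (by norm_num) _

end CfsgLib.ClassesLower
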