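import Cfsg.Agent.Lib.ClassesLower.FieldData
import Cfsg.Agent.Lib.ClassesLower.Isometry

/-!
Orders of solvable groups of isometries, without invariant isotropic subgroup, of groups of order at most 100.
-/

set_option autoImplicit false
set_option linter.unusedSectionVars false
set_option linter.style.haveILetI false

namespace CfsgLib.ClassesLower

open Cfsg CfsgLib.SolvClass

universe u v w

/-- An order bound for solvable irreducible linear groups of degree `d` over the field with two elements. -/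
def LinBound.{u'} (d M : ℕ) : Prop :=
  ∀ [Fact (Nat.Prime 2)] (X : Type u') [Group X] [Finite X] [Group.IsSolvable X] (V : Type u') [AddCommGroup V]
    [Module (ZMod 2) V] [Module.Finite (ZMod 2) V] (ρ : X →* (V ≃ₗ[ZMod 2] V)), Function.Injective ρ →
    Module.finrank (ZMod 2) V = d → (∀ U : Submodule (ZMod 2) V, (∀ g, ∀ x ∈ U, ρ g x ∈ U) → U = ⊥ ∨ U = ⊤) →
    Nat.card X ≤ M

/-- The order of the full linear group. -/
theorem card_linear_le {k : Type w} [Field k] [Finite k] {V : Type v} [AddCommGroup V] [Module k V]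
    [Module.Finite k V] {X : Type u} (ρ : X → (V ≃ₗ[k] V)) (hρ : Function.Injective ρ) :
    Nat.card X ≤ ∏ i : Fin (Module.finrank k V),
      (Nat.card k ^ Module.finrank k V - Nat.card k ^ (i : ℕ)) := by
  classical
  have := Fintype.ofFinite k
  set n := Module.finrank k V
  let e : V ≃ₗ[k] (Fin n → k) := (Module.finBasis k V).equivFun
  rw [Nat.card_eq_fintype_card (α := k), ← Matrix.card_GL_field]
  let g : (V ≃ₗ[k] V) → GL (Fin n) k := fun φ =>
    Matrix.GeneralLinearGroup.toLin.symm ((LinearMap.GeneralLinearGroup.generalLinearEquiv k (Fin n → k)).symm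
      (e.symm.trans (φ.trans e)))
  refine Nat.card_le_card_of_injective (fun x => g (ρ x)) fun x y h => hρ (LinearEquiv.ext fun v => ?_)
  have h1 := (LinearMap.GeneralLinearGroup.generalLinearEquiv k (Fin n → k)).symm.injective
    ((Matrix.GeneralLinearGroup.toLin).symm.injective h)
  have h2 := LinearEquiv.congr_fun h1 (e v)
  simp only [LinearEquiv.trans_apply, LinearEquiv.symm_apply_apply] at h2
  exact e.injective h2

/-- The field and scalar cases over two elements. -/
theorem card_le_of_field {X : Type u} [Group X] [Finite X] [Group.IsSolvable X] {V : Type u} [AddCommGroup V]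
    {e f : ℕ} (C : Subgroup X) (hidx : C.index ≤ e) {K : Type u} [Field K] [Finite K] [Module K V]
    [Module.Finite K V] [Nontrivial V] (hK : Nat.card K = 2 ^ e) (hf : Module.finrank K V = f)
    (ρK : C →* (V ≃ₗ[K] V)) (hρK : Function.Injective ρK)
    (hab : ∀ B : Subgroup C, B.Characteristic → (∀ a ∈ B, ∀ b ∈ B, a * b = b * a) → B ≤ scal ρK)
    {M : ℕ} (h : ∀ a, a ≤ f * f → (a ≠ 1 → ∃ r, r.Prime ∧ r ∣ a ∧ r ∣ 2 ^ e - 1) →
      e * ((2 ^ e - 1) * (a * gbd 6 a)) ≤ M) (hf8 : f * f ≤ 2 ^ 6) : Nat.card X ≤ M := by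
  obtain ⟨A, instA, hfin, ω, σ, hker, hω, hsize, hF, -⟩ := exists_pairing ρK hρK hab
  have hq := card_isometries_le ω (QuotientGroup.kerLift σ) (n := 6) (hsize.trans (hf ▸ hf8))
    (QuotientGroup.kerLift_injective σ) fun q => QuotientGroup.induction_on q hω
  have hexp : ∀ a : A, a ^ (2 ^ e - 1) = 1 := fun a => hK ▸ ω.exp_dvd units_pow_card_sub_one a
  refine le_trans ?_ (h (Nat.card A) (hf ▸ hsize) fun h1 => ?_)
  · rw [← Subgroup.index_mul_card C]
    refine Nat.mul_le_mul hidx ?_
    rw [Subgroup.card_eq_card_quotient_mul_card_subgroup σ.ker, mul_comm (Nat.card (C ⧸ σ.ker)),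
      show Nat.card σ.ker = Nat.card (scal ρK) * Nat.card A by rw [hker, hF], mul_assoc]
    exact Nat.mul_le_mul (hK ▸ card_scal_le ρK hρK) (Nat.mul_le_mul_left _ hq)
  · obtain ⟨r, hr, hra⟩ := Nat.exists_prime_and_dvd h1
    haveI := Fact.mk hr
    obtain ⟨x, hx⟩ := exists_prime_orderOf_dvd_card' r hra
    exact ⟨r, hr, hra, hx ▸ orderOf_dvd_of_pow_eq_one (hexp x)⟩

theorem linBound_of {d M : ℕ} (hd : 1 ≤ d) (hd8 : d ≤ 8)
    (hfield : ∀ e f a, 1 ≤ e → e * f = d → a ≤ f * f → (a ≠ 1 → ∃ r, r.Prime ∧ r ∣ a ∧ r ∣ 2 ^ e - 1) →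
      e * ((2 ^ e - 1) * (a * gbd 6 a)) ≤ M)
    (hblock : ∀ t m, 2 ≤ t → t * m = d →
      (∏ i : Fin m, (2 ^ m - 2 ^ (i : ℕ))) ^ t * min t.factorial (3 ^ (t - 1)) ≤ M) :
    LinBound.{u} d M := by
  intro _ X _ _ _ V _ _ _ ρ hρ hdim hirr
  classical
  haveI : Nontrivial V := Module.nontrivial_of_finrank_pos (R := ZMod 2) (by omega)
  haveI : Finite V := Module.finite_of_finite (ZMod 2)
  obtain ⟨A, -, ⟨⟨hAn, hAc⟩, hAmax⟩⟩ := (Set.toFinite
    {B : Subgroup X | B.Normal ∧ ∀ a ∈ B, ∀ b ∈ B, a * b = b * a}).exists_le_maximal (a := ⊥)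
      ⟨inferInstance, fun a ha b hb => by rw [Subgroup.mem_bot.mp ha, Subgroup.mem_bot.mp hb]⟩
  haveI := hAn
  rcases exists_blocks ρ hAc (coprime_of_irreducible ρ hρ hirr A hAc) with hf | ⟨D, hD2, htr⟩
  · obtain ⟨e, f, C, K, iK, iKf, iM, iMF, ρK, he1, -, hef, hidx, hK, hfK, hρK, hab, -, -⟩ :=
      field_data ρ hρ A hAc (fun B hle hBn hBc => le_antisymm (hAmax ⟨hBn, hBc⟩ hle) hle) hf
    have hfd : f ≤ 8 := by
      have : f ≤ e * f := Nat.le_mul_of_pos_left f he1
      omega
    exact card_le_of_field C hidx hK hfK ρK hρK hab (fun a ha hr => hfield e f a he1 (hef.trans hdim) ha hr)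
      (le_trans (Nat.mul_le_mul hfd hfd) (by norm_num))
  · obtain ⟨e₀, he₀⟩ : D.E.Nonempty := Finset.card_pos.mp (by omega)
    haveI : Nonempty D.E := ⟨⟨e₀, he₀⟩⟩
    set m := Module.finrank (ZMod 2) (LinearMap.range e₀) with hmdef
    have hm : ∀ e : D.E, Module.finrank (ZMod 2) (LinearMap.range (e : Module.End (ZMod 2) V)) = m := fun e => by
      obtain ⟨g, hg⟩ := htr hirr e e.2 e₀ he₀
      exact D.finrank_eq_of_conj (f := ⟨e₀, he₀⟩) hg
    have htm : D.E.card * m = d := by
      rw [← hdim, ← D.sum_finrank, Finset.sum_congr rfl fun e _ => hm e, Finset.sum_const, Finset.card_univ,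
        Fintype.card_coe, smul_eq_mul]
    refine le_trans ?_ (hblock D.E.card m hD2 htm)
    rw [← Subgroup.index_mul_card D.permHom.ker, mul_comm, Subgroup.index_ker]
    refine Nat.mul_le_mul ?_ (le_min ?_ ?_)
    · have hone : ∀ e : D.E, ∀ g : D.permHom.ker, D.res e ⟨g, D.ker_le_stab e g.2⟩ =
          (D.res e).comp (Subgroup.inclusion (D.ker_le_stab e)) g := fun e g => rfl
      let f : ∀ e : D.E, D.permHom.ker →* _ := fun e => (D.res e).comp (Subgroup.inclusion (D.ker_le_stab e))
      haveI : ∀ e : D.E, Finite (f e).range := fun e => Finite.of_surjective _ (f e).rangeRestrict_surjective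
      let φ : D.permHom.ker → ∀ e : D.E, (f e).range := fun g e => ⟨f e g, g, rfl⟩
      refine (Nat.card_le_card_of_injective φ fun g h e => ?_).trans ?_
      · refine inv_mul_eq_one.mp (D.eq_one_of_res hρ _ fun i => ?_)
        rw [hone, map_mul, map_inv, inv_mul_eq_one]
        exact congrArg Subtype.val (congrFun e i)
      · rw [Nat.card_pi]
        refine (Finset.prod_le_prod' fun (e : D.E) _ => card_linear_le (k := ZMod 2) (V := LinearMap.range (e : Module.End (ZMod 2) V))
          (Subtype.val : (f e).range → _) Subtype.val_injective).trans (le_of_eq ?_)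
        rw [Finset.prod_congr rfl fun e _ => by rw [hm e], Finset.prod_const, Finset.card_univ,
          Fintype.card_coe, Nat.card_zmod]
    · refine (Subgroup.card_le_card_group _).trans (le_of_eq ?_)
      rw [Nat.card_perm, Nat.card_eq_fintype_card, Fintype.card_coe]
    · haveI : Group.IsSolvable D.permHom.range :=
        Group.isSolvable_of_surjective (MonoidHom.rangeRestrict_surjective _)
      exact solvable_perm_card _ D.permHom.range (by rw [Nat.card_eq_fintype_card, Fintype.card_coe])

theorem div_pairs {t m d : ℕ} (ht : 2 ≤ t) (h : t * m = d) (hd : 1 ≤ d) : t ≤ d ∧ m = d / t ∧ t ∣ d := by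
  refine ⟨Nat.le_of_dvd hd ⟨m, h.symm⟩, ?_, ⟨m, h.symm⟩⟩
  rw [← h, Nat.mul_div_cancel_left _ (by omega)]

theorem linBound_four : LinBound.{u} 4 72 := by
  refine linBound_of (by norm_num) (by norm_num) (fun e f a he hef ha hr => ?_) fun t m ht htm => ?_
  · have h4 : e ≤ 4 := Nat.le_of_dvd (by norm_num) ⟨f, hef.symm⟩
    by_cases h1 : a = 1
    · subst h1
      interval_cases e <;> simp [gbd]
    obtain ⟨r, hrp, hra, hre⟩ := hr h1
    interval_cases e
    · rw [show (2 : ℕ) ^ 1 - 1 = 1 from rfl] at hre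
      exact absurd (Nat.dvd_one.mp hre) hrp.ne_one
    · have h3 : r = 3 := (Nat.prime_dvd_prime_iff_eq hrp Nat.prime_three).mp hre
      subst h3
      have : f = 2 := by omega
      subst this
      have : a ≤ 4 := ha
      interval_cases a <;> simp_all [gbd] <;> omega
    · omega
    · have : f = 1 := by omega
      subst this
      have : a ≤ 1 := ha
      interval_cases a <;> simp_all [gbd]
  · obtain ⟨h1, rfl, h3⟩ := div_pairs ht htm (by norm_num)
    interval_cases t <;> first | (exfalso; revert h3; norm_num; done) | decide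

theorem linBound_six : LinBound.{u} 6 56448 := by
  refine linBound_of (by norm_num) (by norm_num) (fun e f a he hef ha hr => ?_) fun t m ht htm => ?_
  · have h4 : e ≤ 6 := Nat.le_of_dvd (by norm_num) ⟨f, hef.symm⟩
    have key : a * gbd 6 a ≤ (f * f) * gbd 6 (f * f) := Nat.mul_le_mul ha (gbd_mono 6 ha)
    by_cases h1 : a = 1
    · subst h1
      interval_cases e <;> simp [gbd]
    have hf' : e = 1 → False := fun h => by
      subst h
      obtain ⟨r, hr, -, hre⟩ := hr h1
      rw [show (2 : ℕ) ^ 1 - 1 = 1 from rfl] at hre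
      exact hr.ne_one (Nat.dvd_one.mp hre)
    interval_cases e
    · exact absurd rfl hf'
    all_goals
      obtain ⟨-, rfl, h3⟩ := div_pairs (by norm_num : 2 ≤ _) hef (by norm_num)
      first
        | (exfalso; revert h3; norm_num; done)
        | exact le_trans (Nat.mul_le_mul_left _ (Nat.mul_le_mul_left _ key)) (by decide)
  · obtain ⟨h1, rfl, h3⟩ := div_pairs ht htm (by norm_num)
    interval_cases t <;> first | (exfalso; revert h3; norm_num; done) | decide

/-- The possible orders and the bounds for the isometries. -/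
def table : List (ℕ × ℕ) :=
  [(1, 1), (4, 6), (9, 24), (16, 72), (25, 120), (36, 144), (49, 336), (64, 56448), (81, 58320), (100, 720)]

/-- The elementary pieces. -/
def pieces : List (ℕ × ℕ) :=
  [(4, 6), (16, 72), (64, 56448), (9, 24), (81, 58320), (25, 120), (49, 336)]

theorem table_closed : ∀ x ∈ pieces, ∀ y ∈ table, x.1 * y.1 ≤ 100 →
    ∃ z ∈ table, z.1 = x.1 * y.1 ∧ x.2 * y.2 ≤ z.2 := by
  decide +kernel

/-- The bound of the table. -/
theorem card_le_table : ∀ (c : ℕ) {A : Type u} [CommGroup A] [Finite A] {k : Type w} [Field k] (ω : Pairing A k)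
    (Y : Type u) [Group Y] [Finite Y] [Group.IsSolvable Y] (ρ : Y →* MulAut A), Nat.card A = c → c ≤ 100 →
    Function.Injective ρ → (∀ y a b, ω.toFun (ρ y a) (ρ y b) = ω.toFun a b) →
    (∀ U : Subgroup A, (∀ y, ∀ u ∈ U, ρ y u ∈ U) → (∀ a ∈ U, ∀ b ∈ U, ω.toFun a b = 1) → U = ⊥) →
    ∃ z ∈ table, z.1 = c ∧ Nat.card Y ≤ z.2 := by
  intro c
  induction c using Nat.strong_induction_on with
  | _ c ih =>
    intro A _ _ k _ ω Y _ _ _ ρ hc hc100 hinj hω hiso
    classical
    by_cases hA : Nat.card A = 1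
    · refine ⟨(1, 1), by simp [table], by rw [← hc, hA], ?_⟩
      have : Subsingleton A := (Nat.card_eq_one_iff_unique.mp hA).1
      have : Subsingleton Y := ⟨fun y z => hinj (MulEquiv.ext fun a => Subsingleton.elim _ _)⟩
      simp [Nat.card_unique]
    have hexU : ∃ m, ∃ U : Subgroup A, U ≠ ⊥ ∧ (∀ y, ∀ u ∈ U, ρ y u ∈ U) ∧ Nat.card U = m :=
      ⟨_, ⊤, fun e => hA (by rw [← Subgroup.card_top, e, Subgroup.card_bot]),
        fun _ _ _ => Subgroup.mem_top _, rfl⟩
    obtain ⟨U, hU1, hUinv, hUc⟩ := Nat.find_spec hexU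
    have hmin : ∀ W : Subgroup A, W ≤ U → (∀ y, ∀ u ∈ W, ρ y u ∈ W) → W = ⊥ ∨ W = U := by
      intro W hWU hW
      by_cases hW1 : W = ⊥
      · exact Or.inl hW1
      · exact Or.inr (Subgroup.eq_of_le_of_card_ge hWU (hUc ▸ Nat.find_min' hexU ⟨W, hW1, hW, rfl⟩))
    have hperp : ∀ y, ∀ a ∈ ω.perp U, ρ y a ∈ ω.perp U := fun y a ha u hu => by
      have := hω y a (ρ y⁻¹ u)
      rw [map_inv, MulAut.inv_def, MulEquiv.apply_symm_apply] at this
      rw [this]
      exact ha _ (by simpa [map_inv] using hUinv y⁻¹ u hu)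
    have hUU : U ⊓ ω.perp U = ⊥ := hiso _ (fun y u hu => ⟨hUinv y u hu.1, hperp y u hu.2⟩)
      fun a ha b hb => ha.2 b hb.1
    obtain ⟨r, hr, hrU⟩ := Nat.exists_prime_and_dvd (n := Nat.card U)
      (fun e => hU1 (Subgroup.card_eq_one.mp e))
    haveI := Fact.mk hr
    have hexp : ∀ u : U, u ^ r = 1 := by
      let W : Subgroup A := U ⊓ (powMonoidHom r : A →* A).ker
      have hW : W = U := by
        refine (hmin W inf_le_left fun y u hu => ⟨hUinv y u hu.1, ?_⟩).resolve_left fun e => ?_
        · show (ρ y u) ^ r = 1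
          rw [← map_pow, show u ^ r = 1 from hu.2, map_one]
        · obtain ⟨x, hx⟩ := exists_prime_orderOf_dvd_card' r hrU
          have hxW : (x : A) ∈ W := ⟨x.2, by
            show (x : A) ^ r = 1
            rw [← Subgroup.coe_pow, ← hx, pow_orderOf_eq_one, Subgroup.coe_one]⟩
          rw [e, Subgroup.mem_bot, OneMemClass.coe_eq_one] at hxW
          rw [hxW, orderOf_one] at hx
          exact hr.one_lt.ne hx
      intro u
      have : (u : A) ∈ W := hW.symm ▸ u.2
      exact Subtype.ext this.2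
    obtain ⟨m, hm⟩ := Pairing.card_sq hr _ (ω.restrict U hUU) rfl hexp
    let ρU := restrictAut ρ U hUinv
    let ρP := restrictAut ρ (ω.perp U) hperp
    have hsplit := ω.card_mul_perp hUU
    have hPpos : 0 < Nat.card (ω.perp U) := Nat.card_pos
    have hU2 : 1 < Nat.card U := (Subgroup.one_lt_card_iff_ne_bot U).mpr hU1
    obtain ⟨y, hy, hy1, hyP⟩ := ih (Nat.card (ω.perp U))
      (by rw [← hc, hsplit]; exact lt_mul_of_one_lt_left hPpos hU2)
      (ω.restrict _ (ω.perp_inf_perp hUU)) (Y ⧸ ρP.ker) (QuotientGroup.kerLift ρP) rfl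
      ((Nat.le_mul_of_pos_left _ (by omega)).trans (hsplit ▸ hc ▸ hc100))
      (QuotientGroup.kerLift_injective ρP) (fun q => QuotientGroup.induction_on q fun y a b => hω y a b)
      (fun W hW hWi => by
        refine (Subgroup.map_eq_bot_iff_of_injective _ (ω.perp U).subtype_injective).mp
          (hiso (W.map (ω.perp U).subtype) ?_ ?_)
        · rintro y _ ⟨w, hw, rfl⟩
          exact ⟨_, hW (QuotientGroup.mk y) w hw, rfl⟩
        · rintro _ ⟨a, ha, rfl⟩ _ ⟨b, hb, rfl⟩
          exact hWi a ha b hb)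
    have hprod : Nat.card Y ≤ Nat.card (Y ⧸ ρU.ker) * Nat.card (Y ⧸ ρP.ker) := by
      rw [← Nat.card_prod]
      refine Nat.card_le_card_of_injective
        ((QuotientGroup.mk' ρU.ker).prod (QuotientGroup.mk' ρP.ker)) ?_
      refine (injective_iff_map_eq_one _).mpr fun g hg => hinj (MulEquiv.ext fun a => ?_)
      have hgU : ρU g = 1 := MonoidHom.mem_ker.mp ((QuotientGroup.eq_one_iff g).mp (congrArg Prod.fst hg))
      have hgP : ρP g = 1 := MonoidHom.mem_ker.mp ((QuotientGroup.eq_one_iff g).mp (congrArg Prod.snd hg))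
      have ha : a ∈ U ⊔ ω.perp U := ω.sup_perp hUU ▸ Subgroup.mem_top a
      obtain ⟨b, hb, c', hc', rfl⟩ := Subgroup.mem_sup.mp ha
      have e1 : ρ g b = b := congrArg Subtype.val (DFunLike.congr_fun hgU (⟨b, hb⟩ : U))
      have e2 : ρ g c' = c' := congrArg Subtype.val (DFunLike.congr_fun hgP (⟨c', hc'⟩ : ω.perp U))
      rw [map_one, map_mul, e1, e2, MulAut.one_apply]
    have hiU : ∀ q : Y ⧸ ρU.ker, ∀ a b : U, (ω.restrict U hUU).toFun (QuotientGroup.kerLift ρU q a)
        (QuotientGroup.kerLift ρU q b) = (ω.restrict U hUU).toFun a b :=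
      fun q => QuotientGroup.induction_on q fun y a b => hω y a b
    have hU100 : r ^ (2 * m) ≤ 100 := by
      rw [← hm]
      exact (Nat.le_mul_of_pos_right _ hPpos).trans (hsplit ▸ hc ▸ hc100)
    have hm1 : 1 ≤ m := by
      rcases Nat.eq_zero_or_pos m with rfl | h
      · rw [mul_zero, pow_zero] at hm; omega
      · exact h
    have hpiece : ∃ x ∈ pieces, x.1 = Nat.card U ∧ Nat.card (Y ⧸ ρU.ker) ≤ x.2 := by
      have hiso' := card_le_isometries (ω.restrict U hUU) (QuotientGroup.kerLift ρU) hr (d := 2 * m)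
        (by omega) hm hexp (QuotientGroup.kerLift_injective ρU) hiU
      have hm3 : m ≤ 3 := by
        by_contra h
        have := (Nat.pow_le_pow_right two_pos (by omega : 8 ≤ 2 * m)).trans
          (Nat.pow_le_pow_left hr.two_le (2 * m))
        omega
      have hr10 : r ≤ 10 := by
        by_contra h
        have h2 := (Nat.pow_le_pow_left (by omega : 11 ≤ r) 2).trans
          (Nat.pow_le_pow_right hr.pos (by omega : 2 ≤ 2 * m))
        omega
      have hlin : ∀ M, LinBound.{u} (2 * m) M → r = 2 → Nat.card (Y ⧸ ρU.ker) ≤ M := by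
        intro M hM hr2
        subst hr2
        letI : Module (ZMod 2) (Additive U) := AddCommGroup.zmodModule fun a => hexp a.toMul
        haveI : Finite (Additive U) := Finite.of_equiv U Additive.ofMul
        let σ := QuotientGroup.kerLift ρU
        let g : (Y ⧸ ρU.ker) → (Additive U ≃ₗ[ZMod 2] Additive U) := fun y =>
          (MulEquiv.toAdditive (σ y)).toLinearEquiv fun c x =>
            ZMod.map_smul (MulEquiv.toAdditive (σ y)).toAddMonoidHom c x
        have hg : ∀ y (x : Additive U), g y x = Additive.ofMul (σ y x.toMul) := fun _ _ => rfl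
        let ρ' : (Y ⧸ ρU.ker) →* (Additive U ≃ₗ[ZMod 2] Additive U) :=
          { toFun := g
            map_one' := LinearEquiv.ext fun x => by rw [hg, map_one]; rfl
            map_mul' := fun y z => LinearEquiv.ext fun x => by
              rw [LinearEquiv.mul_apply, hg, hg, hg, map_mul, MulAut.mul_apply, toMul_ofMul] }
        refine hM _ _ ρ' (fun y z e => QuotientGroup.kerLift_injective ρU (MulEquiv.ext fun a => ?_)) ?_
          fun S hS => ?_
        · exact Additive.ofMul.injective (LinearEquiv.congr_fun e (Additive.ofMul a))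
        · have h1 := Module.natCard_eq_pow_finrank (K := ZMod 2) (V := Additive U)
          rw [Nat.card_congr Additive.toMul, hm, Nat.card_zmod] at h1
          exact (Nat.pow_right_injective le_rfl h1).symm
        · let W : Subgroup U := S.toAddSubgroup.toSubgroup'
          have hW : ∀ u : U, u ∈ W ↔ Additive.ofMul u ∈ S := fun u => Iff.rfl
          rcases hmin (W.map U.subtype) (Subgroup.map_subtype_le _) (by
            rintro y _ ⟨w, hw, rfl⟩
            exact ⟨σ (QuotientGroup.mk y) w, hS (QuotientGroup.mk y) _ hw, rfl⟩) with h | h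
          · rw [Subgroup.map_eq_bot_iff_of_injective _ U.subtype_injective] at h
            refine Or.inl ((Submodule.eq_bot_iff S).mpr fun x hx => ?_)
            have : x.toMul ∈ W := hx
            rw [h, Subgroup.mem_bot] at this
            exact congrArg Additive.ofMul this
          · refine Or.inr (eq_top_iff.mpr fun x _ => ?_)
            have : ((x.toMul : U) : A) ∈ W.map U.subtype := h.symm ▸ (x.toMul : U).2
            obtain ⟨w, hw, hwx⟩ := this
            have hwx' : w = x.toMul := U.subtype_injective hwx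
            rw [hwx'] at hw
            exact hw
      have := hr.two_le
      rw [hm]
      interval_cases m <;> interval_cases r <;>
        first | (exfalso; revert hU100; norm_num; done) | (exfalso; revert hr; norm_num; done) | skip
      · exact ⟨(4, 6), by simp [pieces], rfl, hiso'.trans (by decide)⟩
      · exact ⟨(9, 24), by simp [pieces], rfl, hiso'.trans (by decide)⟩
      · exact ⟨(25, 120), by simp [pieces], rfl, hiso'.trans (by decide)⟩
      · exact ⟨(49, 336), by simp [pieces], rfl, hiso'.trans (by decide)⟩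
      · exact ⟨(16, 72), by simp [pieces], rfl, hlin 72 linBound_four rfl⟩
      · exact ⟨(81, 58320), by simp [pieces], rfl, hiso'.trans (by decide)⟩
      · exact ⟨(64, 56448), by simp [pieces], rfl, hlin 56448 linBound_six rfl⟩
    obtain ⟨x, hx, hx1, hxU⟩ := hpiece
    obtain ⟨z, hz, hz1, hz2⟩ := table_closed x hx y hy (by rw [hx1, hy1, ← hsplit, hc]; exact hc100)
    exact ⟨z, hz, by rw [hz1, hx1, hy1, ← hsplit, hc],
      hprod.trans ((Nat.mul_le_mul hxU hyP).trans hz2)⟩

end CfsgLib.ClassesLower
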