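import Cfsg.Agent.Lib.ClassesLower.Count

/-!
Classes of a group of order 24 with a self-centralising normal four group.
-/

set_option autoImplicit false
set_option linter.unusedSectionVars false
set_option linter.style.haveILetI false

namespace CfsgLib.ClassesLower

universe u v w

/-- A class whose elements generate their centralisers is rigid. -/
theorem rigid_of_cyclic {C : Type u} [Group C] (Z : Subgroup C) [Z.Normal]
    (hcen : ∀ s ∈ Z, ∀ c : C, c * s = s * c) (y : C ⧸ Z)
    (hy : ∀ g : C ⧸ Z, g * y = y * g → g ∈ Subgroup.zpowers y) : Rigid Z (ConjClasses.mk y) := by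
  intro x hx s hs hconj
  obtain ⟨h, hh⟩ := isConj_iff.mp (ConjClasses.mk_eq_mk_iff_isConj.mp hx.symm)
  obtain ⟨g, hg⟩ := isConj_iff.mp hconj
  have hgx : (g : C ⧸ Z) * x = (x : C ⧸ Z) * g := by
    have := congrArg (QuotientGroup.mk : C → C ⧸ Z) hg
    rw [QuotientGroup.mk_mul_of_mem x hs, QuotientGroup.mk_mul, QuotientGroup.mk_mul,
      QuotientGroup.mk_inv, mul_inv_eq_iff_eq_mul] at this
    exact this
  obtain ⟨i, hi⟩ := hy (h⁻¹ * (g : C ⧸ Z) * h) (by
    rw [← hh] at hgx
    calc h⁻¹ * (g : C ⧸ Z) * h * y = h⁻¹ * ((g : C ⧸ Z) * (h * y * h⁻¹)) * h := by group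
      _ = h⁻¹ * (h * y * h⁻¹ * (g : C ⧸ Z)) * h := by rw [hgx]
      _ = y * (h⁻¹ * (g : C ⧸ Z) * h) := by group)
  have hgi : (g : C ⧸ Z) = ((x ^ i : C) : C ⧸ Z) := by
    rw [QuotientGroup.mk_zpow, ← hh, conj_zpow, show y ^ i = h⁻¹ * (g : C ⧸ Z) * h from hi]
    group
  have hmem : (x ^ i)⁻¹ * g ∈ Z := QuotientGroup.eq.mp hgi.symm
  have hcomm : g * x = x * g := by
    rw [show g = x ^ i * ((x ^ i)⁻¹ * g) by group]
    calc x ^ i * ((x ^ i)⁻¹ * g) * x = x ^ i * (((x ^ i)⁻¹ * g) * x) := mul_assoc _ _ _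
      _ = x ^ i * (x * ((x ^ i)⁻¹ * g)) := by rw [hcen _ hmem x]
      _ = x * (x ^ i * ((x ^ i)⁻¹ * g)) := by group
  rw [hcomm, mul_inv_cancel_right] at hg
  exact mul_eq_left.mp hg.symm

variable {G : Type u} [Group G] [Finite G] (N : Subgroup G) [N.Normal]

theorem twentyFour (h4 : Nat.card N = 4) (h2 : ∀ x ∈ N, x * x = 1) (hidx : N.index = 6)
    (hcomm : ∀ x ∈ N, ∀ y ∈ N, x * y = y * x)
    (hself : ∀ g : G, (∀ x ∈ N, g * x = x * g) → g ∈ N) :
    5 ≤ Nat.card (ConjClasses G) ∧ ∃ T : Finset (ConjClasses G), T.card = 3 ∧ ∀ c ∈ T, c = ConjClasses.mk 1 ∨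
      ∃ y, ConjClasses.mk y = c ∧ ∀ g, g * y = y * g → g ∈ Subgroup.zpowers y := by
  classical
  have := Fintype.ofFinite G
  let P := {x : G // x ∈ N ∧ x ≠ 1}
  let τ : G →* Equiv.Perm P := MonoidHom.mk'
    (fun g => (MulAut.conj g).toEquiv.subtypeEquiv fun x => by
      constructor
      · rintro ⟨hx, hx1⟩
        exact ⟨‹N.Normal›.conj_mem x hx g, fun e => hx1 (conj_eq_one_iff.mp e)⟩
      · rintro ⟨hx, hx1⟩
        refine ⟨?_, fun e => hx1 (by subst e; simp)⟩
        have := ‹N.Normal›.conj_mem _ hx g⁻¹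
        simpa [mul_assoc] using this)
    fun g h => Equiv.ext fun x => Subtype.ext (by simp)
  have hτ : ∀ g (x : P), (τ g x : G) = g * x * g⁻¹ := fun g x => rfl
  have hker : τ.ker = N := by
    ext g
    constructor
    · intro hg
      refine hself g fun x hx => ?_
      by_cases hx1 : x = 1
      · rw [hx1, mul_one, one_mul]
      · have := congrArg (fun σ : Equiv.Perm P => (σ ⟨x, hx, hx1⟩ : G)) (MonoidHom.mem_ker.mp hg)
        simp only [hτ, Equiv.Perm.coe_one, id_eq] at this
        exact mul_inv_eq_iff_eq_mul.mp this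
    · intro hg
      refine MonoidHom.mem_ker.mpr (Equiv.ext fun x => Subtype.ext ?_)
      rw [hτ, hcomm g hg x x.2.1, mul_inv_cancel_right]
      rfl
  have hP : Nat.card P = 3 := by
    have e : (Finset.univ.filter fun x : G => x ∈ N ∧ x ≠ 1) = (Finset.univ.filter (· ∈ N)).erase 1 := by
      ext x; simp [and_comm]
    rw [Nat.card_eq_fintype_card, Fintype.card_subtype, e, Finset.card_erase_of_mem (by simp),
      ← Fintype.card_subtype, ← Nat.card_eq_fintype_card]
    omega
  have hsurj : Function.Surjective τ := by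
    rw [← MonoidHom.range_eq_top]
    refine Subgroup.eq_top_of_le_card _ ?_
    rw [← Subgroup.index_ker, hker, hidx, Nat.card_perm, hP]
    rfl
  obtain ⟨a1, a2, a3, h12, h13, h23, huniv⟩ := Finset.card_eq_three.mp
    (show (Finset.univ : Finset P).card = 3 by rw [Finset.card_univ, ← Nat.card_eq_fintype_card, hP])
  have hcases : ∀ x : P, x = a1 ∨ x = a2 ∨ x = a3 := fun x => by
    have := Finset.mem_univ x
    rw [huniv] at this
    simpa using this
  -- the kernel inside a centraliser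
  have hN : ∀ x ∈ N, x = 1 ∨ ∃ q : P, (q : G) = x := fun x hx => by
    by_cases hx1 : x = 1
    · exact Or.inl hx1
    · exact Or.inr ⟨⟨x, hx, hx1⟩, rfl⟩
  have hfix : ∀ y n : G, n ∈ N → n * y = y * n → n = 1 ∨ ∃ q : P, (q : G) = n ∧ τ y q = q := by
    intro y n hn hc
    rcases hN n hn with h | ⟨q, hq⟩
    · exact Or.inl h
    · refine Or.inr ⟨q, hq, Subtype.ext ?_⟩
      rw [hτ, hq, ← hc, mul_inv_cancel_right]
  have hτc : ∀ g y : G, g * y = y * g → ∀ x, τ g (τ y x) = τ y (τ g x) := fun g y h x => by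
    rw [← Equiv.Perm.mul_apply, ← map_mul, h, map_mul, Equiv.Perm.mul_apply]
  have hker' : ∀ g : G, τ g a1 = a1 → τ g a2 = a2 → g ∈ N := fun g e1 e2 => by
    rw [← hker, MonoidHom.mem_ker]
    refine Equiv.ext fun x => ?_
    rcases hcases x with e | e | e <;> rw [e]
    · exact e1
    · exact e2
    · rcases hcases (τ g a3) with h | h | h
      · exact absurd ((τ g).injective (h.trans e1.symm)) h13.symm
      · exact absurd ((τ g).injective (h.trans e2.symm)) h23.symm
      · exact h
  let C := fun y : G => Subgroup.centralizer ({y} : Set G)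
  have hmemC : ∀ g y : G, g ∈ C y ↔ g * y = y * g := fun g y => Subgroup.mem_centralizer_singleton_iff
  -- an element of order three
  obtain ⟨w, hw⟩ := hsurj (Equiv.swap a1 a2 * Equiv.swap a2 a3)
  have hw1 : τ w a1 = a2 := by simp [hw, Equiv.swap_apply_of_ne_of_ne h12 h13]
  have hw2 : τ w a2 = a3 := by simp [hw, Equiv.swap_apply_of_ne_of_ne h13.symm h23.symm]
  have hwnofix : ∀ x : P, τ w x ≠ x := by
    intro x
    rcases hcases x with e | e | e <;> rw [e]
    · rw [hw1]; exact h12.symm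
    · rw [hw2]; exact h23.symm
    · intro h
      exact h23 ((τ w).injective (hw2.trans h.symm))
  have hwC : Nat.card (C w) ≤ 3 := by
    rw [← hP]
    refine Nat.card_le_card_of_injective (fun g : C w => τ (g : G) a1) fun g h e => ?_
    refine Subtype.ext (inv_mul_eq_one.mp ?_)
    set d := (g : G)⁻¹ * h with hd
    have hdC : d * w = w * d := by
      have hdm : d ∈ C w := mul_mem (inv_mem g.2) h.2
      exact (hmemC d w).mp hdm
    have e1 : τ d a1 = a1 := by
      rw [hd, map_mul, map_inv, Equiv.Perm.mul_apply, ← show τ (g : G) a1 = τ (h : G) a1 from e]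
      simp
    have e2 : τ d a2 = a2 := by rw [← hw1, hτc d w hdC, e1]
    rcases hfix w d (hker' d e1 e2) hdC with h | ⟨q, -, hq⟩
    · exact h
    · exact absurd hq (hwnofix q)
  have hwN : w ∉ N := fun h => hwnofix a1 (by
    rw [← hker, MonoidHom.mem_ker] at h
    rw [h, Equiv.Perm.coe_one, id_eq])
  -- an involution and an element of order four
  obtain ⟨u, hu⟩ := hsurj (Equiv.swap a2 a3)
  have hufix : ∀ u' : G, τ u' = Equiv.swap a2 a3 → ∀ q : P, τ u' q = q → q = a1 := by
    intro u' h q hq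
    rcases hcases q with e | e | e
    · exact e
    · rw [e, h, Equiv.swap_apply_left] at hq; exact absurd hq h23.symm
    · rw [e, h, Equiv.swap_apply_right] at hq; exact absurd hq h23
  have hu1 : ∀ u' : G, τ u' = Equiv.swap a2 a3 → τ u' a1 = a1 := fun u' h => by
    rw [h, Equiv.swap_apply_of_ne_of_ne h12 h13]
  have huC : ∀ u' : G, τ u' = Equiv.swap a2 a3 → Nat.card (C u') ≤ 4 := by
    intro u' h
    have hga1 : ∀ g : C u', τ (g : G) a1 = a1 := fun g => hufix u' h _ (by
      rw [← hτc g u' ((hmemC _ _).mp g.2), hu1 u' h])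
    have : Fintype (C u') := Fintype.ofFinite _
    let T : Finset P := {a2, a3}
    have hT : ∀ g : C u', τ (g : G) a2 ∈ T := fun g => by
      rcases hcases (τ (g : G) a2) with e | e | e
      · exact absurd ((τ (g : G)).injective (e.trans (hga1 g).symm)) h12.symm
      · simp [T, e]
      · simp [T, e]
    rw [Nat.card_eq_fintype_card, ← Finset.card_univ]
    refine (Finset.card_le_mul_card_image (f := fun g : C u' => τ (g : G) a2) _ 2 fun b hb => ?_).trans ?_
    · obtain ⟨g₀, -, rfl⟩ := Finset.mem_image.mp hb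
      refine le_trans ?_ (Finset.card_le_two (a := (1 : G)) (b := (a1 : G)))
      refine Finset.card_le_card_of_injOn (fun g : C u' => (g₀ : G)⁻¹ * g) ?_
        fun x _ y _ e => Subtype.ext (mul_left_cancel e)
      intro g hg
      have he : τ (g : G) a2 = τ (g₀ : G) a2 := (Finset.mem_filter.mp hg).2
      have hdC : (g₀ : G)⁻¹ * g * u' = u' * ((g₀ : G)⁻¹ * g) :=
        (hmemC _ _).mp (mul_mem (inv_mem g₀.2) g.2)
      have e1 : τ ((g₀ : G)⁻¹ * g) a1 = a1 := by
        rw [map_mul, map_inv, Equiv.Perm.mul_apply, hga1 g, Equiv.Perm.inv_def, Equiv.symm_apply_eq]; exact (hga1 g₀).symm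
      have e2 : τ ((g₀ : G)⁻¹ * g) a2 = a2 := by
        rw [map_mul, map_inv, Equiv.Perm.mul_apply, he]; simp
      rcases hfix u' _ (hker' _ e1 e2) hdC with h' | ⟨q, hq, hq'⟩
      · simp [h']
      · simp [← hq, hufix u' h q hq']
    · calc 2 * _ ≤ 2 * T.card := Nat.mul_le_mul_left _ (Finset.card_le_card fun b hb => by
            obtain ⟨g, -, rfl⟩ := Finset.mem_image.mp hb; exact hT g)
        _ ≤ 2 * 2 := Nat.mul_le_mul_left _ Finset.card_le_two
  have huN : ∀ u' : G, τ u' = Equiv.swap a2 a3 → u' ∉ N := fun u' h hm => by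
    rw [← hker, MonoidHom.mem_ker] at hm
    rw [hm] at h
    exact h23 (by simpa using (DFunLike.congr_fun h a2).symm.symm)
  have husq : u * u = 1 ∨ u * u = a1 := by
    have hm : u * u ∈ N := by
      rw [← hker, MonoidHom.mem_ker, map_mul, hu, Equiv.swap_mul_self]
    rcases hfix u (u * u) hm (mul_assoc u u u) with h | ⟨q, hq, hq'⟩
    · exact Or.inl h
    · exact Or.inr (by rw [← hq, hufix u hu q hq'])
  have hτua2 : τ (u * (a2 : G)) = Equiv.swap a2 a3 := by
    rw [map_mul, hu, show τ (a2 : G) = 1 from MonoidHom.mem_ker.mp (hker.symm ▸ a2.2.1), mul_one]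
  have hprod : (a3 : G) * a2 = a1 := by
    rcases hN _ (mul_mem a3.2.1 a2.2.1) with h | ⟨q, hq⟩
    · refine absurd (Subtype.ext ?_) h23
      calc (a2 : G) = (a3 : G) * a2 * a2 := by rw [h, one_mul]
        _ = a3 := by rw [mul_assoc, h2 a2 a2.2.1, mul_one]
    · rcases hcases q with e | e | e <;> rw [e] at hq
      · exact hq.symm
      · exact absurd (mul_eq_right.mp hq.symm) a3.2.2
      · exact absurd (mul_eq_left.mp hq.symm) a2.2.2
  have hsq' : u * (a2 : G) * (u * a2) = u * u * a1 := by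
    have e : (τ u a3 : G) = a2 := by rw [hu, Equiv.swap_apply_right]
    rw [hτ] at e
    calc u * (a2 : G) * (u * a2) = u * (u * a3 * u⁻¹) * (u * a2) := by rw [e]
      _ = u * u * (a3 * a2) := by group
      _ = _ := by rw [hprod]
  obtain ⟨v, v', hv, hv', hv2, hv'2⟩ : ∃ v v' : G, τ v = Equiv.swap a2 a3 ∧ τ v' = Equiv.swap a2 a3 ∧
      v * v = a1 ∧ v' * v' = 1 := by
    rcases husq with h | h
    · exact ⟨u * a2, u, hτua2, hu, by rw [hsq', h, one_mul], h⟩
    · exact ⟨u, u * a2, hu, hτua2, h, by rw [hsq', h, h2 a1 a1.2.1]⟩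
  -- orders
  have hov : orderOf v = 4 := by
    haveI := Fact.mk Nat.prime_two
    refine orderOf_eq_prime_pow (p := 2) (n := 1) ?_ ?_
    · rw [pow_one, sq, hv2]; exact a1.2.2
    · rw [show (2 : ℕ) ^ (1 + 1) = 2 * 2 from rfl, pow_mul, sq v, hv2, sq, h2 a1 a1.2.1]
  have hov' : orderOf v' = 2 := by
    haveI := Fact.mk Nat.prime_two
    exact orderOf_eq_prime (by rw [sq, hv'2]) fun e => huN v' hv' (e ▸ one_mem N)
  have hoa : orderOf (a1 : G) = 2 := by
    haveI := Fact.mk Nat.prime_two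
    exact orderOf_eq_prime (by rw [sq, h2 a1 a1.2.1]) a1.2.2
  have hzC : ∀ y : G, Subgroup.zpowers y ≤ C y := fun y => Subgroup.zpowers_le.mpr ((hmemC y y).mpr rfl)
  have how : orderOf w = 3 := by
    have hle : orderOf w ≤ 3 := Nat.card_zpowers w ▸ (Subgroup.card_le_of_le (hzC w)).trans hwC
    have hne : ¬ orderOf w ∣ 2 := fun h => by
      have hw2' := orderOf_dvd_iff_pow_eq_one.mp h
      have e := congrArg (fun σ : Equiv.Perm P => σ a1) (congrArg τ hw2')
      simp only [sq, map_mul, Equiv.Perm.mul_apply, hw1, hw2, map_one, Equiv.Perm.coe_one, id_eq] at e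
      exact h13 e.symm
    have hpos := orderOf_pos w
    interval_cases orderOf w <;> first | rfl | exact absurd (by norm_num) hne
  have hcyc : ∀ y : G, Nat.card (C y) ≤ orderOf y → ∀ g, g * y = y * g → g ∈ Subgroup.zpowers y := by
    intro y hy g hg
    rw [Subgroup.eq_of_le_of_card_ge (hzC y) (by rw [Nat.card_zpowers]; exact hy)]
    exact (hmemC g y).mpr hg
  -- the five classes
  have hord : ∀ x y : G, ConjClasses.mk x = ConjClasses.mk y → orderOf x = orderOf y := fun x y h => by
    obtain ⟨g, rfl⟩ := isConj_iff.mp (ConjClasses.mk_eq_mk_iff_isConj.mp h)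
    exact (orderOf_injective (MulAut.conj g).toMonoidHom (MulAut.conj g).injective x).symm
  have hinj : Function.Injective fun i : Fin 5 => ConjClasses.mk ((![1, (a1 : G), w, v, v'] : Fin 5 → G) i) := by
    intro i j h
    have ho := hord _ _ h
    fin_cases i <;> fin_cases j <;> simp [hoa, how, hov, hov'] at ho ⊢
    all_goals
      exfalso
      simp at h
      obtain ⟨g, hg⟩ := isConj_iff.mp (ConjClasses.mk_eq_mk_iff_isConj.mp h)
      first
        | exact huN v' hv' (hg ▸ ‹N.Normal›.conj_mem _ a1.2.1 g)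
        | exact huN v' hv' (by
            have := ‹N.Normal›.conj_mem _ a1.2.1 g⁻¹
            rw [← hg] at this
            simpa [mul_assoc] using this)
  refine ⟨by simpa using Nat.card_le_card_of_injective _ hinj, ?_⟩
  refine ⟨{ConjClasses.mk 1, ConjClasses.mk w, ConjClasses.mk v}, ?_, ?_⟩
  · refine Finset.card_eq_three.mpr ⟨_, _, _, fun e => ?_, fun e => ?_, fun e => ?_, rfl⟩ <;>
      simpa [how, hov] using hord _ _ e
  · intro c hc
    simp only [Finset.mem_insert, Finset.mem_singleton] at hc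
    rcases hc with rfl | rfl | rfl
    · exact Or.inl rfl
    · exact Or.inr ⟨w, rfl, hcyc w (hwC.trans how.ge)⟩
    · exact Or.inr ⟨v, rfl, hcyc v ((huC v hv).trans hov.ge)⟩

end CfsgLib.ClassesLower
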