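import Cfsg.Agent.Lib.ClassesLower.Arith
import Cfsg.Agent.Lib.ClassesLower.SmallTable
import Cfsg.Agent.Lib.ClassesLower.PairingLink
import Cfsg.Agent.Lib.ClassesLower.TwentyFour

/-!
The field case: classes times orbits for a group linear over a field, modulo its scalars.
-/

set_option autoImplicit false
set_option linter.unusedSectionVars false
set_option linter.style.haveILetI false

namespace CfsgLib.ClassesLower

open Cfsg CfsgLib.SolvClass
open scoped commutatorElement

universe u v w

theorem e_sq_le {m : ℕ} : ∀ e, 2 ≤ e → 1 ≤ m → e ^ 2 ≤ 4 * 11 ^ ((e - 2) * m) := by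
  intro e he hm
  refine le_trans ?_ (Nat.mul_le_mul_left 4 (Nat.pow_le_pow_right (by norm_num) (Nat.le_mul_of_pos_right _ hm)))
  induction e, he using Nat.le_induction with
  | base => norm_num
  | succ e he ih =>
    rw [show e + 1 - 2 = (e - 2) + 1 by omega, pow_succ 11]
    nlinarith

theorem table_small : ∀ z ∈ table, ∀ f ∈ Finset.Icc 4 10, z.1 ≤ f * f → z.1 ≠ 16 ∨ f ≠ 4 →
    2401 * (f * (z.1 * z.2)) ≤ 14256 * (if z.1 = 1 then f else f + 1) * 11 ^ (f - 2) := by
  decide +kernel

theorem table_le_nine : ∀ z ∈ table, z.1 ≤ 9 → z = (1, 1) ∨ z = (4, 6) ∨ z = (9, 24) := by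
  decide

theorem table_sixteen : ∀ z ∈ table, z.1 = 16 → z.2 = 72 := by
  decide

theorem two_le_classes {G : Type u} [Group G] [Finite G] [Group.IsSolvable G] (h : 2 ≤ Nat.card G) :
    2 ≤ Nat.card (ConjClasses G) := by
  by_contra hlt
  have := card_le_of_classes_le_one (G := G) (by omega)
  omega

theorem three_le_classes {G : Type u} [Group G] [Finite G] [Group.IsSolvable G] (h : 3 ≤ Nat.card G) :
    3 ≤ Nat.card (ConjClasses G) := by
  by_contra hlt
  have := card_le_of_classes_le_two (G := G) (by omega)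
  omega

section core

variable {C : Type u} [Group C] [Finite C] [Group.IsSolvable C] {K : Type u} [Field K] [Finite K] {V : Type u}
  [AddCommGroup V] [Module K V] [Module.Finite K V] [Nontrivial V] (ρ : C →* (V ≃ₗ[K] V))

theorem scal_card_dvd (hρ : Function.Injective ρ) : Nat.card (scal ρ) ∣ Nat.card K - 1 := by
  have hv : ∀ c : scal ρ, ∃ a : Kˣ, ∀ x, ρ c x = (a : K) • x := fun c => c.2
  choose val hval using hv
  obtain ⟨x₀, hx₀⟩ := exists_ne (0 : V)
  let χ : scal ρ →* Kˣ := MonoidHom.mk' val fun c d => Units.ext (smul_left_injective K hx₀ (by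
    show ((val (c * d) : Kˣ) : K) • x₀ = ((val c * val d : Kˣ) : K) • x₀
    rw [← hval, Subgroup.coe_mul, map_mul, LinearEquiv.mul_apply, hval, hval, smul_smul, Units.val_mul]))
  have hχ : Function.Injective χ := fun c d e => Subtype.ext (hρ (LinearEquiv.ext fun x => by
    rw [hval, hval]
    exact congrArg (fun a : Kˣ => (a : K) • x) e))
  rw [← Nat.card_units]
  exact Subgroup.card_dvd_of_injective χ hχ

/-- An element is conjugate to at most `dim V` of its scalar multiples. -/
theorem scal_fibre (hρ : Function.Injective ρ) {f : ℕ} (hf : Module.finrank K V = f) (x : C) :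
    {s : C | s ∈ scal ρ ∧ IsConj x (x * s)}.ncard ≤ f := by
  classical
  have := Fintype.ofFinite K
  have hfpos : 0 < f := hf ▸ Module.finrank_pos
  haveI : NeZero f := ⟨hfpos.ne'⟩
  have hv : ∀ c : scal ρ, ∃ a : Kˣ, ∀ y, ρ c y = (a : K) • y := fun c => c.2
  choose val hval using hv
  have hdet : ∀ s : C, ∀ hs : s ∈ scal ρ, IsConj x (x * s) → val ⟨s, hs⟩ ∈ rootsOfUnity f K := by
    intro s hs hc
    obtain ⟨g, hg⟩ := isConj_iff.mp hc
    let δ : C →* Kˣ := (LinearEquiv.det : (V ≃ₗ[K] V) →* Kˣ).comp ρ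
    have h1 : δ s = 1 := by
      have := congrArg δ hg
      rw [map_mul, map_mul, map_mul, map_inv, mul_comm (δ g), mul_inv_cancel_right] at this
      exact (mul_eq_left.mp this.symm)
    rw [mem_rootsOfUnity]
    refine Units.ext ?_
    rw [Units.val_pow_eq_pow_val, Units.val_one]
    have h2 : (ρ s : V →ₗ[K] V) = (val ⟨s, hs⟩ : K) • LinearMap.id := LinearMap.ext fun y => hval ⟨s, hs⟩ y
    have h3 : ((δ s : Kˣ) : K) = LinearMap.det (ρ s : V →ₗ[K] V) := LinearEquiv.coe_det _
    rw [h1, Units.val_one, h2, LinearMap.det_smul, LinearMap.det_id, mul_one, hf] at h3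
    exact h3.symm
  let φ : {s : C | s ∈ scal ρ ∧ IsConj x (x * s)} → rootsOfUnity f K := fun s =>
    ⟨val ⟨s.1, s.2.1⟩, hdet s.1 s.2.1 s.2.2⟩
  rw [← Nat.card_coe_set_eq]
  refine (Nat.card_le_card_of_injective φ fun s t e => Subtype.ext ?_).trans ?_
  · refine hρ (LinearEquiv.ext fun y => ?_)
    have e' : val ⟨s.1, s.2.1⟩ = val ⟨t.1, t.2.1⟩ := congrArg Subtype.val e
    rw [hval ⟨s.1, s.2.1⟩ y, hval ⟨t.1, t.2.1⟩ y, e']
  · exact card_rootsOfUnity K f

/-- The bound in the field case. -/
theorem core {p e f k o : ℕ} [Fact p.Prime] (hp : 11 ≤ p) (hρ : Function.Injective ρ) (he : 1 ≤ e)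
    (hn : 2 ≤ e * f) (hK : Nat.card K = p ^ e) (hf : Module.finrank K V = f)
    (hab : ∀ B : Subgroup C, B.Characteristic → (∀ a ∈ B, ∀ b ∈ B, a * b = b * a) → B ≤ scal ρ)
    (hns : e = 1 → ∀ B : Subgroup C, B.Normal → (∀ a ∈ B, ∀ b ∈ B, a * b = b * a) → B ≤ scal ρ)
    (hk : Nat.card (ConjClasses C) ≤ e * k) (ho : p ^ (e * f) - 1 ≤ o * (e * Nat.card C)) : Good p k o := by
  classical
  obtain ⟨A, instA, hfin, ω, σ, hker, hω, hsize, hF, ⟨ι, hιs, hιk, hισ⟩, hiso⟩ := exists_pairing_link ρ hρ hab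
  rw [hf] at hsize
  let Z := scal ρ
  haveI : Z.Normal := scal_normal hρ
  have hcen : ∀ s ∈ Z, ∀ c : C, c * s = s * c := fun s hs c => scal_comm hρ hs c
  have hZF : Z ≤ fittingSubgroup C := by
    letI : CommGroup Z := { (inferInstance : Group Z) with mul_comm := fun a b => Subtype.ext (hcen b b.2 a) }
    exact CfsgLib.le_fittingSubgroup (CommGroup.isNilpotent (G := Z))
  haveI : (fittingSubgroup C).Normal := inferInstance
  set z := Nat.card Z with hzdef
  set a := Nat.card A with hadef
  set q := Nat.card (C ⧸ σ.ker) with hqdef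
  set kQ := Nat.card (ConjClasses (C ⧸ σ.ker)) with hkQdef
  have hzpos : 1 ≤ z := Nat.card_pos
  have hapos : 1 ≤ a := Nat.card_pos
  have hqpos : 1 ≤ q := Nat.card_pos
  have hfpos : 1 ≤ f := hf ▸ Module.finrank_pos
  have hzdvd : z ∣ p ^ e - 1 := hK ▸ scal_card_dvd ρ hρ
  have hexp : ∀ x : A, x ^ (p ^ e - 1) = 1 := fun x => hK ▸ ω.exp_dvd units_pow_card_sub_one x
  have hcardC : Nat.card C = z * (a * q) := by
    rw [Subgroup.card_eq_card_quotient_mul_card_subgroup σ.ker,
      show Nat.card σ.ker = z * a by rw [hker]; exact hF, mul_comm, mul_assoc]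
  -- the central quotient
  let Fb : Subgroup (C ⧸ Z) := (fittingSubgroup C).map (QuotientGroup.mk' Z)
  haveI : Fb.Normal := Subgroup.Normal.map inferInstance _ (QuotientGroup.mk'_surjective Z)
  have hFbidx : Fb.index = q := by
    rw [Subgroup.index_map_eq (fittingSubgroup C) (QuotientGroup.mk'_surjective Z) (by rwa [QuotientGroup.ker_mk']),
      hqdef, Subgroup.index_eq_card, hker]
  have hFbcard : Nat.card Fb = a := by
    have e1 := Subgroup.card_mul_index Fb
    have e2 := Subgroup.card_eq_card_quotient_mul_card_subgroup Z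
    rw [hcardC, ← e1, hFbidx, ← hzdef] at e2
    refine Nat.eq_of_mul_eq_mul_right (show 0 < q by omega) (Nat.eq_of_mul_eq_mul_right (show 0 < z by omega) ?_)
    rw [← e2]; ring
  have hFbcomm : ∀ x ∈ Fb, ∀ y ∈ Fb, x * y = y * x := by
    rintro _ ⟨x, hx, rfl⟩ _ ⟨y, hy, rfl⟩
    rw [← map_mul, ← map_mul]
    refine QuotientGroup.eq.mpr ?_
    rw [show (x * y)⁻¹ * (y * x) = ⁅y⁻¹, x⁻¹⁆ by simp only [commutatorElement_def]; group]
    exact fitting_commutator_scal ρ hρ hab _ (inv_mem hy) _ (inv_mem hx)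
  have hkQ : Nat.card (ConjClasses ((C ⧸ Z) ⧸ Fb)) = kQ := by
    let e := (QuotientGroup.quotientQuotientEquivQuotient Z (fittingSubgroup C) hZF).trans
      (QuotientGroup.quotientMulEquivOfEq hker.symm)
    exact le_antisymm (SolvClass.card_conjClasses_congr_le e.symm.toMonoidHom e.symm.surjective)
      (SolvClass.card_conjClasses_congr_le e.toMonoidHom e.surjective)
  set kb := Nat.card (ConjClasses (C ⧸ Z)) with hkbdef
  have hkbs : kQ + (classesIn Fb).ncard ≤ kb := hkQ ▸ card_quotient_add_classesIn Fb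
  have hsq : a - 1 ≤ (classesIn Fb).ncard * q := by
    rw [← hFbcard, ← hFbidx]; exact classesIn_mul_ge Fb Fb hFbcomm
  have hkQ1 : 1 ≤ kQ := one_le_card_conjClasses
  have hs1 : a ≠ 1 → 1 ≤ (classesIn Fb).ncard := fun h => by
    rcases Nat.eq_zero_or_pos (classesIn Fb).ncard with h0 | h0
    · rw [h0, zero_mul] at hsq; omega
    · exact h0
  -- lifting
  have hfib := scal_fibre ρ hρ hf
  have hlift : ∀ T : Finset (ConjClasses (C ⧸ Z)), (∀ c ∈ T, Rigid Z c) →
      z * ((f - 1) * T.card + kb) ≤ f * Nat.card (ConjClasses C) :=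
    fun T hT => lift_count Z hcen hfpos hfib T hT
  have hW : ∀ W, W ≤ f - 1 + kb → z * W ≤ f * Nat.card (ConjClasses C) := fun W h => by
    refine le_trans (Nat.mul_le_mul_left z ?_) (hlift {ConjClasses.mk 1} fun c hc => by
      rw [Finset.mem_singleton.mp hc]; exact rigid_one Z hcen)
    rwa [Finset.card_singleton, mul_one]
  have hKpos : 0 < e ^ 2 * (f * (a * q)) :=
    Nat.mul_pos (pow_pos (by omega) _) (Nat.mul_pos (by omega) (Nat.mul_pos (by omega) (by omega)))
  rw [hcardC] at ho
  have fin : ∀ W, W ≤ f - 1 + kb → 2401 * (e ^ 2 * (f * (a * q))) ≤ 14256 * W * p ^ (e * f - 2) →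
      Good p k o := fun W h1 h2 => Or.inl (product_of_count hp hn hzpos hKpos hk ho (hW W h1) h2)
  have fin11 : ∀ W, W ≤ f - 1 + kb → 2401 * (e ^ 2 * (f * (a * q))) ≤ 14256 * W * 11 ^ (e * f - 2) →
      Good p k o := fun W h1 h2 => fin W h1 (h2.trans (Nat.mul_le_mul_left _ (Nat.pow_le_pow_left hp _)))
  have hqn : ∀ n, a ≤ 2 ^ n → q ≤ gbd n a := fun n h =>
    card_isometries_le ω (QuotientGroup.kerLift σ) h (QuotientGroup.kerLift_injective σ)
      fun c => QuotientGroup.induction_on c hω
  have haq : ∀ n, f * f ≤ 2 ^ n → a * q ≤ f * f * gbd n (f * f) := fun n h =>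
    Nat.mul_le_mul hsize ((hqn n (hsize.trans h)).trans (gbd_mono n hsize))
  have hWf : f ≤ f - 1 + kb := by omega
  by_cases he2 : 2 ≤ e
  · refine fin11 f hWf ?_
    rcases Nat.lt_or_ge f 2 with hf2 | hf2
    · obtain rfl : f = 1 := by omega
      have h1 : a * q ≤ 1 := (haq 0 (le_refl 1)).trans (le_of_eq (by simp [gbd]))
      have hesq := e_sq_le (m := 1) e he2 le_rfl
      rw [mul_one] at hesq
      rw [mul_one e, one_mul]
      calc 2401 * (e ^ 2 * (a * q)) ≤ 2401 * (4 * 11 ^ (e - 2) * 1) :=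
            Nat.mul_le_mul_left _ (Nat.mul_le_mul hesq h1)
        _ ≤ _ := by rw [mul_one, mul_one, ← mul_assoc]; exact Nat.mul_le_mul_right _ (by norm_num)
    · have key : 9604 * (a * q) ≤ 14256 * 11 ^ (2 * f - 2) := by
        rcases Nat.lt_or_ge f 64 with hl | hl
        · exact (Nat.mul_le_mul_left _ (haq 12 (le_trans (Nat.mul_le_mul hl.le hl.le) (by norm_num)))).trans
            ((arith_table f hl).2 hf2)
        · have hff : f * f ≤ 2 ^ (2 * (Nat.log 2 f + 1)) := by
            rw [two_mul, pow_add]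
            exact Nat.mul_le_mul (Nat.lt_pow_succ_log_self one_lt_two f).le
              (Nat.lt_pow_succ_log_self one_lt_two f).le
          refine (Nat.mul_le_mul_left _ ((haq _ hff).trans (arith_large hl))).trans ?_
          exact Nat.mul_le_mul (by norm_num) (Nat.pow_le_pow_right (by norm_num) (by omega))
      have hesq := e_sq_le (m := f) e he2 hfpos
      have hexp2 : (e - 2) * f + (2 * f - 2) = e * f - 2 := by
        have : e * f = (e - 2) * f + 2 * f := by rw [← add_mul, Nat.sub_add_cancel he2]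
        omega
      calc 2401 * (e ^ 2 * (f * (a * q))) ≤ 2401 * (4 * 11 ^ ((e - 2) * f) * (f * (a * q))) :=
            Nat.mul_le_mul_left _ (Nat.mul_le_mul_right _ hesq)
        _ = 11 ^ ((e - 2) * f) * f * (9604 * (a * q)) := by ring
        _ ≤ 11 ^ ((e - 2) * f) * f * (14256 * 11 ^ (2 * f - 2)) := Nat.mul_le_mul_left _ key
        _ = 14256 * f * (11 ^ ((e - 2) * f) * 11 ^ (2 * f - 2)) := by ring
        _ = _ := by rw [← pow_add, hexp2]
  obtain rfl : e = 1 := by omega
  simp only [one_mul, one_pow] at hn hk ho fin fin11 ⊢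
  by_cases h11 : 11 ≤ f
  · refine fin11 f hWf ?_
    have key : 2401 * (a * q) ≤ 14256 * 11 ^ (f - 2) := by
      rcases Nat.lt_or_ge f 64 with hl | hl
      · exact (Nat.mul_le_mul_left _ (haq 12 (le_trans (Nat.mul_le_mul hl.le hl.le) (by norm_num)))).trans
          ((arith_table f hl).1 h11)
      · have hff : f * f ≤ 2 ^ (2 * (Nat.log 2 f + 1)) := by
          rw [two_mul, pow_add]
          exact Nat.mul_le_mul (Nat.lt_pow_succ_log_self one_lt_two f).le
            (Nat.lt_pow_succ_log_self one_lt_two f).le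
        exact (Nat.mul_le_mul_left _ ((haq _ hff).trans (arith_large hl))).trans
          (Nat.mul_le_mul_right _ (by norm_num))
    calc 2401 * (f * (a * q)) = f * (2401 * (a * q)) := by ring
      _ ≤ f * (14256 * 11 ^ (f - 2)) := Nat.mul_le_mul_left _ key
      _ = _ := by ring
  have ha100 : a ≤ 100 := hsize.trans (le_trans (Nat.mul_le_mul (by omega : f ≤ 10) (by omega : f ≤ 10)) le_rfl)
  obtain ⟨zt, hzt, hzt1, hzt2⟩ := card_le_table a ω (C ⧸ σ.ker) (QuotientGroup.kerLift σ) rfl ha100
    (QuotientGroup.kerLift_injective σ) (fun c => QuotientGroup.induction_on c hω)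
    (fun U hU hUi => hiso (hns rfl) U (fun c u hu => hU (QuotientGroup.mk c) u hu) hUi)
  rw [← hqdef] at hzt2
  have hq2 : 2 ≤ q → 2 ≤ kQ := fun h => two_le_classes (G := C ⧸ σ.ker) h
  have hq3 : 3 ≤ q → 3 ≤ kQ := fun h => three_le_classes (G := C ⧸ σ.ker) h
  by_cases h4 : 4 ≤ f
  · by_cases h16 : zt.1 ≠ 16 ∨ f ≠ 4
    · refine fin11 (if zt.1 = 1 then f else f + 1) ?_ ?_
      · split_ifs with h
        · exact hWf
        · have := hs1 (hzt1 ▸ h); omega
      · refine le_trans ?_ (table_small zt hzt f (Finset.mem_Icc.mpr ⟨h4, by omega⟩) (hzt1 ▸ hsize) h16)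
        rw [hzt1]
        exact Nat.mul_le_mul_left _ (Nat.mul_le_mul_left _ (Nat.mul_le_mul_left _ hzt2))
    · push Not at h16
      obtain ⟨h16, rfl⟩ := h16
      rw [table_sixteen zt hzt h16] at hzt2
      have ha : a = 16 := hzt1.symm.trans h16
      have hs := hs1 (by omega)
      rw [ha] at fin11
      rcases Nat.lt_or_ge q 3 with hq | hq
      · refine fin11 4 hWf ?_
        norm_num
        omega
      · have := hq3 hq
        refine fin11 7 (by omega) ?_
        norm_num
        omega
  have ha9 : a ≤ 9 := hsize.trans (le_trans (Nat.mul_le_mul (by omega : f ≤ 3) (by omega : f ≤ 3)) le_rfl)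
  by_cases h3 : f = 3
  · subst h3
    rcases table_le_nine zt hzt (hzt1 ▸ ha9) with rfl | rfl | rfl <;> simp only at hzt1 hzt2 <;>
      rw [← hzt1] at fin fin11 hs1
    · exact fin11 3 hWf (by norm_num; omega)
    · exact fin11 3 hWf (by norm_num; omega)
    · have h3dvd : 3 ∣ p - 1 := by
        haveI := Fact.mk Nat.prime_three
        obtain ⟨x, hx⟩ := exists_prime_orderOf_dvd_card' (G := A) 3 (by show 3 ∣ a; rw [← hzt1]; norm_num)
        have := orderOf_dvd_of_pow_eq_one (hexp x)
        rwa [hx, pow_one] at this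
      have hp13 : 13 ≤ p := by
        by_contra h
        have : p = 11 ∨ p = 12 := by omega
        rcases this with rfl | rfl
        · omega
        · exact absurd (Fact.out : Nat.Prime 12) (by norm_num)
      have hs := hs1 (by norm_num)
      rcases Nat.lt_or_ge q 3 with hq | hq
      · exact fin11 4 (by omega) (by norm_num; omega)
      have hq3' := hq3 hq
      rcases Nat.lt_or_ge q 18 with hq18 | hq18
      · refine fin 6 (by omega) ?_
        rw [show 3 - 2 = 1 from rfl, pow_one]
        omega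
      have hq5 : 5 ≤ kQ := five_le_classes (G := C ⧸ σ.ker) hq18 (by rw [← hqdef]; omega)
      rcases Nat.lt_or_ge p 19 with hp19 | hp19
      · obtain rfl : p = 13 := by
          have hpr : p.Prime := Fact.out
          interval_cases p <;> first | rfl | omega | (exfalso; revert hpr; norm_num)
        have hz12 : z ∣ 12 := by simpa using hzdvd
        have hzle : z ≤ 12 := Nat.le_of_dvd (by norm_num) hz12
        have hk8 : z * 8 ≤ 3 * k := (hW 8 (by omega)).trans (Nat.mul_le_mul_left 3 hk)
        have ho8 : 13 ^ 3 - 1 ≤ o * (z * 216) := by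
          refine ho.trans (Nat.mul_le_mul_left o (Nat.mul_le_mul_left z ?_))
          rw [← hzt1]
          calc 9 * q ≤ 9 * 24 := Nat.mul_le_mul_left 9 hzt2
            _ = 216 := by norm_num
        left
        obtain ⟨K₀, O₀, hk0, ho0, hKO⟩ : ∃ K₀ O₀, K₀ ≤ k ∧ O₀ ≤ o ∧ 29 ≤ K₀ * O₀ := by
          interval_cases z <;> first | (exfalso; revert hz12; norm_num; done) | skip
          · exact ⟨3, 11, by omega, by omega, by norm_num⟩
          · exact ⟨6, 6, by omega, by omega, by norm_num⟩
          · exact ⟨8, 4, by omega, by omega, by norm_num⟩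
          · exact ⟨11, 3, by omega, by omega, by norm_num⟩
          · exact ⟨16, 2, by omega, by omega, by norm_num⟩
          · exact ⟨32, 1, by omega, by omega, by norm_num⟩
        have := Nat.mul_le_mul hk0 ho0
        norm_num
        omega
      · refine fin 8 (by omega) ?_
        rw [show 3 - 2 = 1 from rfl, pow_one]
        omega
  obtain rfl : f = 2 := by omega
  rcases table_le_nine zt hzt (hzt1 ▸ ha9) with rfl | rfl | rfl <;> simp only at hzt1 hzt2
  · rw [← hzt1] at fin11
    exact fin11 2 hWf (by norm_num; omega)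
  · have ha : a = 4 := hzt1.symm
    have hq6 : q ∣ 6 := by
      let P := {x : A // x ≠ 1}
      let τ : (C ⧸ σ.ker) →* Equiv.Perm P := MonoidHom.mk'
        (fun c => (QuotientGroup.kerLift σ c).toEquiv.subtypeEquiv fun x =>
          ((QuotientGroup.kerLift σ c).map_eq_one_iff).not.symm)
        fun c d => Equiv.ext fun x => Subtype.ext (by simp)
      have hτ : Function.Injective τ := fun c d h => QuotientGroup.kerLift_injective σ (MulEquiv.ext fun x => by
        by_cases hx : x = 1
        · rw [hx, map_one, map_one]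
        · exact congrArg Subtype.val (DFunLike.congr_fun h (⟨x, hx⟩ : P)))
      have hP : Nat.card P = 3 := by
        have := Fintype.ofFinite A
        rw [Nat.card_eq_fintype_card]
        simp only [P, ne_eq]
        rw [Fintype.card_subtype_compl, Fintype.card_subtype_eq, ← Nat.card_eq_fintype_card, ← hadef, ha]
      have := Subgroup.card_dvd_of_injective τ hτ
      rwa [Nat.card_perm, hP, show Nat.factorial 3 = 6 from rfl] at this
    have hs := hs1 (by omega)
    rw [ha] at fin11 hsq
    rcases (by decide : ∀ d ≤ 6, d ∣ 6 → d = 1 ∨ d = 2 ∨ d = 3 ∨ d = 6) q hzt2 hq6 with h | h | h | h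
    · rw [h] at fin11 hsq
      exact fin11 5 (by omega) (by norm_num)
    · rw [h] at fin11 hsq
      have := hq2 (by omega)
      exact fin11 5 (by omega) (by norm_num)
    · rw [h] at fin11 hsq
      have := hq3 (by omega)
      exact fin11 5 (by omega) (by norm_num)
    -- the exceptional plane case
    have hA2 : ∀ x : A, x * x = 1 := fun x => by
      rw [← sq]; exact SolvClass.sq_eq_one_of_card_le ω (by rw [← hadef, ha]) x
    have hιeq : ∀ x y : (fittingSubgroup C), (ι x = ι y ↔ ((x : C) : C ⧸ Z) = (y : C)) := fun x y => by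
      rw [QuotientGroup.eq, ← inv_mul_eq_one (a := ι x), ← map_inv, ← map_mul, ← MonoidHom.mem_ker, hιk]
      rfl
    have h2 : ∀ x ∈ Fb, x * x = 1 := by
      rintro _ ⟨x, hx, rfl⟩
      rw [← map_mul]
      refine (QuotientGroup.eq_one_iff _).mpr ?_
      have e : (⟨x, hx⟩ * ⟨x, hx⟩ : (fittingSubgroup C)) ∈ ι.ker := by rw [MonoidHom.mem_ker, map_mul]; exact hA2 _
      rwa [hιk] at e
    have hself : ∀ g : C ⧸ Z, (∀ x ∈ Fb, g * x = x * g) → g ∈ Fb := by
      intro g
      induction g using QuotientGroup.induction_on with | _ g => ?_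
      intro hg
      refine ⟨g, ?_, rfl⟩
      rw [SetLike.mem_coe, ← hker, MonoidHom.mem_ker]
      refine MulEquiv.ext fun x => ?_
      obtain ⟨y, rfl⟩ := hιs x
      let y' : (fittingSubgroup C) := ⟨g * y * g⁻¹, ‹(fittingSubgroup C).Normal›.conj_mem _ y.2 g⟩
      rw [hισ g y y' rfl, MulAut.one_apply, hιeq]
      show ((g * y * g⁻¹ : C) : C ⧸ Z) = _
      rw [QuotientGroup.mk_mul, QuotientGroup.mk_mul, QuotientGroup.mk_inv,
        hg ((y : C) : C ⧸ Z) ⟨y, y.2, rfl⟩, mul_inv_cancel_right]
    obtain ⟨h5, T, hT3, hT⟩ := twentyFour Fb (hFbcard.trans ha) h2 (hFbidx.trans h) hFbcomm hself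
    have h8 : z * 8 ≤ 2 * k := by
      refine le_trans (Nat.mul_le_mul_left z ?_) ((hlift T fun c hc => ?_).trans (Nat.mul_le_mul_left 2 hk))
      · rw [hT3]; omega
      · rcases hT c hc with rfl | ⟨y, rfl, hy⟩
        · exact rigid_one Z hcen
        · exact rigid_of_cyclic Z hcen y hy
    refine Or.inr (special_plane hp (z := z) (by simpa using hzdvd) (by omega) ?_)
    rw [ha, h] at ho
    calc p ^ 2 - 1 ≤ o * (z * (4 * 6)) := ho
      _ = _ := by ring
  · exfalso
    have : a ≤ 4 := hsize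
    omega

end core

end CfsgLib.ClassesLower
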