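import Mathlib
import Cfsg.Agent.S4200
import Cfsg.Agent.Lib.SolvClass.Basic

/-!
Counting lemmas for lower bounds on class numbers: classes inside a normal subgroup, orbits of a linear group,
groups with few classes, and the classes lying over a class of a central quotient.
-/

set_option autoImplicit false
set_option linter.unusedSectionVars false
set_option linter.style.haveILetI false

namespace CfsgLib.ClassesLower

universe u v w

/-! ### Classes inside a normal subgroup -/

section classes

variable {G : Type u} [Group G] [Finite G]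

/-- The non-trivial classes meeting a subgroup. -/
def classesIn (N : Subgroup G) : Set (ConjClasses G) :=
  {c | ∃ x ∈ N, x ≠ 1 ∧ ConjClasses.mk x = c}

theorem card_quotient_add_classesIn (N : Subgroup G) [N.Normal] :
    Nat.card (ConjClasses (G ⧸ N)) + (classesIn N).ncard ≤ Nat.card (ConjClasses G) := by
  classical
  have hsurj : Function.Surjective (ConjClasses.map (QuotientGroup.mk' N)) :=
    ConjClasses.map_surjective (QuotientGroup.mk'_surjective N)
  let s : ConjClasses (G ⧸ N) → ConjClasses G := fun c =>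
    if c = ConjClasses.mk 1 then ConjClasses.mk 1 else Function.surjInv hsurj c
  have hs : ∀ c, ConjClasses.map (QuotientGroup.mk' N) (s c) = c := by
    intro c
    simp only [s]
    split_ifs with h
    · subst h; rfl
    · exact Function.surjInv_eq hsurj c
  have hin : ∀ c ∈ classesIn N, ConjClasses.map (QuotientGroup.mk' N) c = ConjClasses.mk 1 := by
    rintro _ ⟨x, hx, -, rfl⟩
    show ConjClasses.mk (QuotientGroup.mk' N x) = _
    rw [show QuotientGroup.mk' N x = 1 from (QuotientGroup.eq_one_iff x).mpr hx]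
  have hdisj : Disjoint (Set.range s) (classesIn N) := by
    rw [Set.disjoint_left]
    rintro _ ⟨c, rfl⟩ hc
    have h1 : c = ConjClasses.mk 1 := (hs c).symm.trans (hin _ hc)
    obtain ⟨x, -, hx1, hx⟩ := hc
    rw [h1] at hx
    simp only [s, if_pos rfl] at hx
    exact hx1 (isConj_one_left.mp (ConjClasses.mk_eq_mk_iff_isConj.mp hx))
  rw [← Set.ncard_range_of_injective (Function.LeftInverse.injective hs),
    ← Set.ncard_union_eq hdisj (Set.toFinite _) (Set.toFinite _)]
  exact (Set.ncard_le_ncard (Set.subset_univ _) (Set.toFinite _)).trans (Set.ncard_univ _).le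

/-- An element commuting with a normal subgroup `N` has at most `|G : N|` conjugates. -/
theorem classesIn_mul_ge (N C : Subgroup G) (hC : ∀ c ∈ C, ∀ x ∈ N, c * x = x * c) :
    Nat.card N - 1 ≤ (classesIn N).ncard * C.index := by
  classical
  have := Fintype.ofFinite G
  let T : Finset G := Finset.univ.filter fun x => x ∈ N ∧ x ≠ 1
  have hT : T.card = Nat.card N - 1 := by
    have : T = (Finset.univ.filter (· ∈ N)).erase 1 := by ext x; simp [T, and_comm]
    rw [this, Finset.card_erase_of_mem (by simp), ← Nat.card_eq_finsetCard]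
    congr 1
    exact Nat.card_congr (Equiv.subtypeEquivRight fun x => by simp)
  have himg : (T.image ConjClasses.mk).card ≤ (classesIn N).ncard := by
    rw [← Set.ncard_coe_finset]
    refine Set.ncard_le_ncard ?_ (Set.toFinite _)
    intro c hc
    obtain ⟨x, hx, rfl⟩ := Finset.mem_image.mp hc
    exact ⟨x, (Finset.mem_filter.mp hx).2.1, (Finset.mem_filter.mp hx).2.2, rfl⟩
  rw [← hT, mul_comm]
  refine (Finset.card_le_mul_card_image (f := ConjClasses.mk) T C.index ?_).trans
    (Nat.mul_le_mul_left _ himg)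
  intro c hc
  obtain ⟨x, hx, rfl⟩ := Finset.mem_image.mp hc
  have hxN := (Finset.mem_filter.mp hx).2.1
  let f : G ⧸ C → G := Quotient.lift (fun g : G => g * x * g⁻¹) fun g g' h => by
    have h' := hC _ (QuotientGroup.leftRel_apply.mp h) x hxN
    calc g * x * g⁻¹ = g * (x * (g⁻¹ * g')) * (g⁻¹ * g')⁻¹ * g⁻¹ := by group
      _ = g * (g⁻¹ * g' * x) * (g⁻¹ * g')⁻¹ * g⁻¹ := by rw [h']
      _ = g' * x * g'⁻¹ := by group
  rw [← Nat.card_eq_finsetCard, Subgroup.index_eq_card]
  refine le_trans (Nat.card_le_card_of_injective (β := Set.range f)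
    (fun y => (⟨(y : G), ?_⟩ : Set.range f)) ?_) ?_
  · obtain ⟨g, hg⟩ := isConj_iff.mp (ConjClasses.mk_eq_mk_iff_isConj.mp (Finset.mem_filter.mp y.2).2.symm)
    exact ⟨(g : G ⧸ C), hg⟩
  · intro a b e
    exact Subtype.ext (congrArg (fun z : Set.range f => (z : G)) e :)
  · exact Nat.card_le_card_of_surjective _ Set.rangeFactorization_surjective

theorem card_conjClasses_of_comm (h : ∀ a b : G, a * b = b * a) : Nat.card (ConjClasses G) = Nat.card G := by
  refine (Nat.card_eq_of_bijective ConjClasses.mk ⟨fun a b e => ?_, ConjClasses.mk_surjective⟩).symm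
  obtain ⟨g, rfl⟩ := isConj_iff.mp (ConjClasses.mk_eq_mk_iff_isConj.mp e)
  rw [h g a, mul_inv_cancel_right]

theorem one_le_card_conjClasses : 1 ≤ Nat.card (ConjClasses G) :=
  Nat.card_pos

end classes

/-! ### Orbits -/

section orbits

variable {k : Type w} [Semiring k] {V : Type v} [AddCommGroup V] [Module k V] {X : Type u} [Group X]

/-- The orbits on non-zero vectors. -/
def orbSet (ρ : X →* (V ≃ₗ[k] V)) : Set (Set V) := (fun v => Set.range fun g => ρ g v) '' {v | v ≠ 0}

/-- The number of orbits on non-zero vectors. -/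
noncomputable def numOrb (ρ : X →* (V ≃ₗ[k] V)) : ℕ := (orbSet ρ).ncard

theorem numOrb_mul_ge [Finite X] [Finite V] (ρ : X →* (V ≃ₗ[k] V)) :
    Nat.card V - 1 ≤ numOrb ρ * Nat.card X := by
  classical
  have := Fintype.ofFinite V
  let T : Finset V := Finset.univ.erase 0
  have hT : T.card = Nat.card V - 1 := by
    rw [Finset.card_erase_of_mem (Finset.mem_univ _), Finset.card_univ, Nat.card_eq_fintype_card]
  have himg : (T.image fun v => Set.range fun g => ρ g v).card = numOrb ρ := by
    rw [← Set.ncard_coe_finset]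
    congr 1
    ext S
    simp [orbSet, T]
  rw [← hT, ← himg, mul_comm]
  refine Finset.card_le_mul_card_image T _ fun S hS => ?_
  obtain ⟨v, -, rfl⟩ := Finset.mem_image.mp hS
  rw [← Nat.card_eq_finsetCard]
  refine le_trans (Nat.card_le_card_of_injective (β := Set.range fun g => ρ g v)
    (fun w => (⟨(w : V), ?_⟩ : Set.range fun g => ρ g v)) ?_)
    (Nat.card_le_card_of_surjective _ Set.rangeFactorization_surjective)
  · have h1 : (w : V) ∈ Set.range fun g => ρ g (w : V) := ⟨1, by simp⟩
    exact (Set.ext_iff.mp (Finset.mem_filter.mp w.2).2 (w : V)).mp h1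
  · intro a b e
    exact Subtype.ext (congrArg Subtype.val e :)

theorem one_le_numOrb [Finite X] [Finite V] [Nontrivial V] (ρ : X →* (V ≃ₗ[k] V)) : 1 ≤ numOrb ρ := by
  obtain ⟨v, hv⟩ := exists_ne (0 : V)
  exact (Set.ncard_pos (Set.toFinite _)).mpr ⟨_, v, hv, rfl⟩

theorem numOrb_comp {Y : Type*} [Group Y] (f : X →* Y) (hf : Function.Surjective f) (ρ : Y →* (V ≃ₗ[k] V)) :
    numOrb (ρ.comp f) = numOrb ρ := by
  unfold numOrb orbSet
  congr 2
  funext v
  exact hf.range_comp fun g => ρ g v

end orbits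

/-! ### Few classes -/

section small

variable {G : Type u} [Group G] [Finite G]

/-- Splitting along an abelian normal subgroup. -/
theorem exists_step [Group.IsSolvable G] [Nontrivial G] :
    ∃ (Q : Type u) (_ : Group Q) (_ : Finite Q) (_ : Group.IsSolvable Q) (a : ℕ),
      2 ≤ a ∧ Nat.card G = Nat.card Q * a ∧ Nat.card (ConjClasses Q) < Nat.card (ConjClasses G) ∧
        a - 1 ≤ Nat.card Q * (Nat.card (ConjClasses G) - Nat.card (ConjClasses Q)) := by
  obtain ⟨A, hAn, hA1, hAc⟩ := SolvClass.exists_abelian_normal G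
  haveI := hAn
  have h2 : 2 ≤ Nat.card A := (Subgroup.one_lt_card_iff_ne_bot A).mpr hA1
  have h := card_quotient_add_classesIn A
  have h' := classesIn_mul_ge A A hAc
  rw [Subgroup.index_eq_card] at h'
  have hpos : 1 ≤ (classesIn A).ncard := by
    rcases Nat.eq_zero_or_pos (classesIn A).ncard with h0 | h0
    · rw [h0, zero_mul] at h'; omega
    · exact h0
  refine ⟨G ⧸ A, inferInstance, inferInstance, inferInstance, Nat.card A, h2,
    Subgroup.card_eq_card_quotient_mul_card_subgroup A, by omega, ?_⟩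
  rw [mul_comm (Nat.card (G ⧸ A))]
  exact h'.trans (Nat.mul_le_mul_right _ (by omega))

theorem card_le_of_classes_le_one [Group.IsSolvable G] (h : Nat.card (ConjClasses G) ≤ 1) : Nat.card G ≤ 1 := by
  rcases subsingleton_or_nontrivial G with hG | hG
  · rw [Nat.card_unique]
  · obtain ⟨Q, iG, iF, iS, a, ha, -, hlt, -⟩ := exists_step (G := G)
    have := one_le_card_conjClasses (G := Q)
    omega

theorem card_le_of_classes_le_two {G : Type u} [Group G] [Finite G] [Group.IsSolvable G]
    (h : Nat.card (ConjClasses G) ≤ 2) : Nat.card G ≤ 2 := by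
  rcases subsingleton_or_nontrivial G with hG | hG
  · rw [Nat.card_unique]; omega
  · obtain ⟨Q, iG, iF, iS, a, ha, he, hlt, hb⟩ := exists_step (G := G)
    have h1 : Nat.card Q ≤ 1 := card_le_of_classes_le_one (by omega)
    have h2 := one_le_card_conjClasses (G := Q)
    have h3 : a - 1 ≤ 1 * (Nat.card (ConjClasses G) - Nat.card (ConjClasses Q)) :=
      hb.trans (Nat.mul_le_mul_right _ h1)
    rw [he]
    exact le_trans (Nat.mul_le_mul h1 (le_refl a)) (by omega)

theorem card_le_of_classes_le_three {G : Type u} [Group G] [Finite G] [Group.IsSolvable G]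
    (h : Nat.card (ConjClasses G) ≤ 3) : Nat.card G ≤ 6 := by
  rcases subsingleton_or_nontrivial G with hG | hG
  · rw [Nat.card_unique]; omega
  · obtain ⟨Q, iG, iF, iS, a, ha, he, hlt, hb⟩ := exists_step (G := G)
    have h2 := one_le_card_conjClasses (G := Q)
    rw [he]
    rcases Nat.eq_or_lt_of_le h2 with hk | hk
    · have h1 : Nat.card Q ≤ 1 := card_le_of_classes_le_one (by omega)
      have h3 := hb.trans (Nat.mul_le_mul_right _ h1)
      calc _ ≤ 1 * 6 := Nat.mul_le_mul h1 (by omega)
        _ = 6 := one_mul 6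
    · have h1 : Nat.card Q ≤ 2 := card_le_of_classes_le_two (by omega)
      have h3 := hb.trans (Nat.mul_le_mul_right _ h1)
      calc _ ≤ 2 * 3 := Nat.mul_le_mul h1 (by omega)
        _ = 6 := by norm_num

theorem card_le_of_classes_le_four {G : Type u} [Group G] [Finite G] [Group.IsSolvable G]
    (h : Nat.card (ConjClasses G) ≤ 4) : Nat.card G ≤ 42 := by
  rcases subsingleton_or_nontrivial G with hG | hG
  · rw [Nat.card_unique]; omega
  · obtain ⟨Q, iG, iF, iS, a, ha, he, hlt, hb⟩ := exists_step (G := G)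
    have h2 := one_le_card_conjClasses (G := Q)
    rw [he]
    by_cases hk : Nat.card (ConjClasses Q) ≤ 2
    · have h1 : Nat.card Q ≤ 2 := card_le_of_classes_le_two hk
      have h3 := hb.trans (Nat.mul_le_mul_right _ h1)
      exact le_trans (Nat.mul_le_mul h1 (le_refl a)) (by omega)
    · have h1 : Nat.card Q ≤ 6 := card_le_of_classes_le_three (by omega)
      have h3 := hb.trans (Nat.mul_le_mul_right _ h1)
      calc _ ≤ 6 * 7 := Nat.mul_le_mul h1 (by omega)
        _ = 42 := by norm_num

/-- An element whose centralizer has prime order `r` forces `r²` not to divide the group order. -/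
theorem not_sq_dvd_of_prime_centralizer {r : ℕ} [Fact r.Prime] {x : G}
    (hC : Nat.card (Subgroup.centralizer ({x} : Set G)) = r) (hx : x ≠ 1) : ¬ r ^ 2 ∣ Nat.card G := by
  intro hdvd
  have hr : r.Prime := Fact.out
  set C := Subgroup.centralizer ({x} : Set G) with hCdef
  have hzle : Subgroup.zpowers x ≤ C := by
    rw [Subgroup.zpowers_le, hCdef, Subgroup.mem_centralizer_singleton_iff]
  have hCeq : Subgroup.zpowers x = C := by
    refine Subgroup.eq_of_le_of_card_ge hzle ?_
    rw [hC, Nat.card_zpowers]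
    rcases (Nat.dvd_prime hr).mp (hC ▸ Nat.card_zpowers x ▸ Subgroup.card_dvd_of_le hzle) with h | h
    · exact absurd (orderOf_eq_one_iff.mp h) hx
    · exact h.ge
  have hp : IsPGroup r (Subgroup.zpowers x) := IsPGroup.of_card (n := 1) (by rw [hCeq, hC, pow_one])
  obtain ⟨P, hP⟩ := hp.exists_le_sylow
  have hP2 : r ^ 2 ∣ Nat.card P := by
    rw [P.card_eq_multiplicity]
    exact pow_dvd_pow r ((hr.pow_dvd_iff_le_factorization Nat.card_pos.ne').mp hdvd)
  have hxP : x ∈ (P : Subgroup G) := hP (Subgroup.mem_zpowers x)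
  haveI : Nontrivial P := Finite.one_lt_card_iff_nontrivial.mp
    (lt_of_lt_of_le (Nat.one_lt_pow two_ne_zero hr.one_lt) (Nat.le_of_dvd Nat.card_pos hP2))
  haveI := P.isPGroup'.center_nontrivial
  obtain ⟨z, hz⟩ := exists_ne (1 : Subgroup.center P)
  have hzc : ∀ y ∈ (P : Subgroup G), y * ((z : P) : G) = ((z : P) : G) * y := fun y hy =>
    congrArg Subtype.val (Subgroup.mem_center_iff.mp z.2 ⟨y, hy⟩)
  have hzC : ((z : P) : G) ∈ C := by
    rw [hCdef, Subgroup.mem_centralizer_singleton_iff]
    exact (hzc x hxP).symm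
  have hzne : ((z : P) : G) ≠ 1 := fun e => hz (Subtype.ext (Subtype.ext e))
  have hgen : Subgroup.zpowers ((z : P) : G) = C := by
    refine Subgroup.eq_of_le_of_card_ge (Subgroup.zpowers_le.mpr hzC) ?_
    rw [hC, Nat.card_zpowers]
    rcases (Nat.dvd_prime hr).mp (hC ▸ Nat.card_zpowers ((z : P) : G) ▸
      Subgroup.card_dvd_of_le (Subgroup.zpowers_le.mpr hzC)) with h | h
    · exact absurd (orderOf_eq_one_iff.mp h) hzne
    · exact h.ge
  have hxz : x ∈ Subgroup.zpowers ((z : P) : G) := by
    rw [hgen, ← hCeq]; exact Subgroup.mem_zpowers x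
  have hle : (P : Subgroup G) ≤ C := fun y hy => by
    rw [hCdef, Subgroup.mem_centralizer_singleton_iff]
    obtain ⟨i, rfl⟩ := hxz
    exact ((Commute.zpow_right (hzc y hy : Commute y _) i)).eq
  have h1 := Nat.le_of_dvd Nat.card_pos (hP2.trans (Subgroup.card_dvd_of_le hle))
  rw [hC] at h1
  nlinarith [hr.two_le]

/-- A group of order between 18 and 24 has at least five classes. -/
theorem five_le_classes (h1 : 18 ≤ Nat.card G) (h2 : Nat.card G ≤ 24) : 5 ≤ Nat.card (ConjClasses G) := by
  classical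
  by_contra hlt
  have := Fintype.ofFinite G
  have := Fintype.ofFinite (ConjClasses G)
  set n := Nat.card G with hn
  let T : Finset (ConjClasses G) := Finset.univ.erase (ConjClasses.mk 1)
  let sz : ConjClasses G → ℕ := fun c => Nat.card c.carrier
  let S : Finset ℕ := insert 0 ((Finset.range n).filter fun d =>
    d ∣ n ∧ (Nat.Prime (n / d) → ¬ (n / d) ^ 2 ∣ n))
  have hsum : ∑ c ∈ T, sz c + 1 = n := by
    have e : ∑ c : ConjClasses G, sz c = n := by
      rw [hn, Nat.card_congr (Equiv.sigmaFiberEquiv (ConjClasses.mk : G → ConjClasses G)).symm, Nat.card_sigma]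
      refine Finset.sum_congr rfl fun c _ => Nat.card_congr (Equiv.subtypeEquivRight fun x => ?_)
      exact ConjClasses.mem_carrier_iff_mk_eq
    rw [← e, ← Finset.add_sum_erase _ _ (Finset.mem_univ (ConjClasses.mk (1 : G))), add_comm]
    congr 1
    rw [eq_comm]
    refine Nat.card_eq_one_iff_unique.mpr ⟨⟨fun a b => Subtype.ext ?_⟩, ⟨⟨1, ConjClasses.mem_carrier_mk⟩⟩⟩
    have ha := ConjClasses.mk_eq_mk_iff_isConj.mp (ConjClasses.mem_carrier_iff_mk_eq.mp a.2)
    have hb := ConjClasses.mk_eq_mk_iff_isConj.mp (ConjClasses.mem_carrier_iff_mk_eq.mp b.2)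
    rw [isConj_one_left.mp ha, isConj_one_left.mp hb]
  have hmem : ∀ c ∈ T, sz c ∈ S := by
    intro c hc
    obtain ⟨x, rfl⟩ := ConjClasses.mk_surjective c
    have hx : x ≠ 1 := fun e => (Finset.mem_erase.mp hc).1 (by rw [e])
    have hcard : sz (ConjClasses.mk x) * Nat.card (Subgroup.centralizer ({x} : Set G)) = n := by
      have e := (MulAction.stabilizer (ConjAct G) x).index_mul_card
      rw [MulAction.index_stabilizer, ← Nat.card_coe_set_eq, ConjAct.orbit_eq_carrier_conjClasses,
        Nat.card_congr ConjAct.ofConjAct.toEquiv] at e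
      rw [hn, ← e]
      congr 1
      refine Nat.card_congr ?_
      exact (Equiv.subtypeEquiv ConjAct.toConjAct.toEquiv fun g => by
        simp [Subgroup.mem_centralizer_singleton_iff, ConjAct.smul_def, mul_inv_eq_iff_eq_mul])
    have hszpos : 0 < sz (ConjClasses.mk x) := Nat.card_pos_iff.mpr
      ⟨⟨⟨x, ConjClasses.mem_carrier_mk⟩⟩, inferInstance⟩
    have h2C : 2 ≤ Nat.card (Subgroup.centralizer ({x} : Set G)) :=
      (Subgroup.one_lt_card_iff_ne_bot _).mpr fun e => hx (by
        have : x ∈ Subgroup.centralizer ({x} : Set G) := Subgroup.mem_centralizer_singleton_iff.mpr rfl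
        rwa [e, Subgroup.mem_bot] at this)
    refine Finset.mem_insert_of_mem (Finset.mem_filter.mpr ⟨Finset.mem_range.mpr ?_, Dvd.intro _ hcard, ?_⟩)
    · nlinarith
    · have hdiv : n / sz (ConjClasses.mk x) = Nat.card (Subgroup.centralizer ({x} : Set G)) := by
        rw [← hcard, Nat.mul_div_cancel_left _ hszpos]
      intro hp
      haveI := Fact.mk hp
      rw [hn]
      exact not_sq_dvd_of_prime_centralizer hdiv.symm hx
  have hT : T.card ≤ 3 := by
    rw [Finset.card_erase_of_mem (Finset.mem_univ _), Finset.card_univ, ← Nat.card_eq_fintype_card]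
    omega
  obtain ⟨a, ha, b, hb, c, hc, habc⟩ :
      ∃ a ∈ S, ∃ b ∈ S, ∃ c ∈ S, a + b + c = ∑ x ∈ T, sz x := by
    have h0 : 0 ∈ S := Finset.mem_insert_self _ _
    interval_cases hT' : T.card
    · exact ⟨0, h0, 0, h0, 0, h0, by simp [Finset.card_eq_zero.mp hT']⟩
    · obtain ⟨x, hx⟩ := Finset.card_eq_one.mp hT'
      exact ⟨sz x, hmem x (by simp [hx]), 0, h0, 0, h0, by simp [hx]⟩
    · obtain ⟨x, y, hxy, hx⟩ := Finset.card_eq_two.mp hT'
      exact ⟨sz x, hmem x (by simp [hx]), sz y, hmem y (by simp [hx]), 0, h0, by simp [hx, hxy]⟩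
    · obtain ⟨x, y, z, hxy, hxz, hyz, hx⟩ := Finset.card_eq_three.mp hT'
      exact ⟨sz x, hmem x (by simp [hx]), sz y, hmem y (by simp [hx]), sz z, hmem z (by simp [hx]),
        by simp [hx, hxy, hxz, hyz, add_assoc]⟩
  have key : ∀ m ∈ Finset.Icc 18 24, ∀ a ∈ insert 0 ((Finset.range m).filter fun d =>
      d ∣ m ∧ (Nat.Prime (m / d) → ¬ (m / d) ^ 2 ∣ m)),
      ∀ b ∈ insert 0 ((Finset.range m).filter fun d => d ∣ m ∧ (Nat.Prime (m / d) → ¬ (m / d) ^ 2 ∣ m)),
      ∀ c ∈ insert 0 ((Finset.range m).filter fun d => d ∣ m ∧ (Nat.Prime (m / d) → ¬ (m / d) ^ 2 ∣ m)),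
      a + b + c + 1 ≠ m := by decide +kernel
  exact key n (Finset.mem_Icc.mpr ⟨h1, h2⟩) a ha b hb c hc (by rw [habc, hsum])

end small

/-! ### Classes over a central quotient -/

section lifting

variable {C : Type u} [Group C] [Finite C] (Z : Subgroup C) [Z.Normal]

/-- A class of the quotient is rigid when no preimage is conjugate to a different central multiple of itself. -/
def Rigid (c : ConjClasses (C ⧸ Z)) : Prop :=
  ∀ x : C, ConjClasses.mk (x : C ⧸ Z) = c → ∀ s ∈ Z, IsConj x (x * s) → s = 1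

theorem rigid_one (hcen : ∀ s ∈ Z, ∀ c : C, c * s = s * c) : Rigid Z (ConjClasses.mk 1) := by
  intro x hx s hs h
  have hx1 : x ∈ Z := (QuotientGroup.eq_one_iff x).mp
    (isConj_one_left.mp (ConjClasses.mk_eq_mk_iff_isConj.mp hx))
  obtain ⟨g, hg⟩ := isConj_iff.mp h
  rw [hcen x hx1 g, mul_inv_cancel_right] at hg
  exact mul_eq_left.mp hg.symm

/-- The classes over the classes of a central quotient. -/
theorem lift_count (hcen : ∀ s ∈ Z, ∀ c : C, c * s = s * c) {f : ℕ} (hf : 1 ≤ f)
    (hfib : ∀ x : C, {s : C | s ∈ Z ∧ IsConj x (x * s)}.ncard ≤ f)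
    (T : Finset (ConjClasses (C ⧸ Z))) (hT : ∀ c ∈ T, Rigid Z c) :
    Nat.card Z * ((f - 1) * T.card + Nat.card (ConjClasses (C ⧸ Z))) ≤ f * Nat.card (ConjClasses C) := by
  classical
  have := Fintype.ofFinite (ConjClasses C)
  have := Fintype.ofFinite (ConjClasses (C ⧸ Z))
  have := Fintype.ofFinite Z
  let r : ConjClasses (C ⧸ Z) → C := fun c => c.out.out
  have hr : ∀ c, ConjClasses.mk ((r c : C) : C ⧸ Z) = c := fun c => by
    show ConjClasses.mk ((c.out.out : C) : C ⧸ Z) = c
    rw [QuotientGroup.out_eq']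
    exact Quotient.out_eq c
  let π : ConjClasses C → ConjClasses (C ⧸ Z) := ConjClasses.map (QuotientGroup.mk' Z)
  have hπ : ∀ c : ConjClasses (C ⧸ Z), ∀ s : Z, π (ConjClasses.mk (r c * s)) = c := fun c s => by
    show ConjClasses.mk ((r c * s : C) : C ⧸ Z) = c
    rw [QuotientGroup.mk_mul_of_mem _ s.2, hr]
  have hfib' : ∀ c, ∀ d : ConjClasses C,
      (Finset.univ.filter fun s : Z => ConjClasses.mk (r c * s) = d).card ≤
        if c ∈ T then 1 else f := by
    intro c d
    rcases (Finset.univ.filter fun s : Z => ConjClasses.mk (r c * s) = d).eq_empty_or_nonempty with h | ⟨s₀, hs₀⟩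
    · simp [h]
    have hs₀' := (Finset.mem_filter.mp hs₀).2
    have hconj : ∀ s ∈ Finset.univ.filter (fun s : Z => ConjClasses.mk (r c * s) = d),
        ((s₀ : C)⁻¹ * s ∈ Z ∧ IsConj (r c * s₀) (r c * s₀ * ((s₀ : C)⁻¹ * s))) := fun s hs => by
      refine ⟨mul_mem (inv_mem s₀.2) s.2, ConjClasses.mk_eq_mk_iff_isConj.mp ?_⟩
      rw [hs₀', ← (Finset.mem_filter.mp hs).2]
      congr 1
      group
    split_ifs with hc
    · refine Finset.card_le_one.mpr fun s hs s' hs' => ?_
      have hx : ConjClasses.mk ((r c * s₀ : C) : C ⧸ Z) = c := hπ c s₀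
      have e1 := hT c hc _ hx _ (hconj s hs).1 (hconj s hs).2
      have e2 := hT c hc _ hx _ (hconj s' hs').1 (hconj s' hs').2
      exact Subtype.ext ((inv_mul_eq_one.mp e1).symm.trans (inv_mul_eq_one.mp e2))
    · refine le_trans ?_ (hfib (r c * s₀))
      rw [← Finset.card_image_of_injective _ (f := fun s : Z => (s₀ : C)⁻¹ * s)
        (fun a b e => Subtype.ext (mul_left_cancel e)), ← Set.ncard_coe_finset]
      refine Set.ncard_le_ncard ?_ (Set.toFinite _)
      intro y hy
      obtain ⟨s, hs, rfl⟩ := Finset.mem_image.mp hy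
      exact hconj s hs
  have hper : ∀ c, Nat.card Z * (if c ∈ T then f else 1) ≤
      f * (Finset.univ.filter fun d => π d = c).card := by
    intro c
    have hle : Nat.card Z ≤ (if c ∈ T then 1 else f) * (Finset.univ.filter fun d => π d = c).card := by
      rw [Nat.card_eq_fintype_card, ← Finset.card_univ]
      refine (Finset.card_le_mul_card_image (f := fun s : Z => ConjClasses.mk (r c * (s : C))) _ _
        fun d _ => hfib' c d).trans (Nat.mul_le_mul_left _ (Finset.card_le_card fun d hd => ?_))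
      obtain ⟨s, -, rfl⟩ := Finset.mem_image.mp hd
      exact Finset.mem_filter.mpr ⟨Finset.mem_univ _, hπ c s⟩
    split_ifs with hc
    · rw [if_pos hc, one_mul] at hle
      rw [mul_comm]
      exact Nat.mul_le_mul_left f hle
    · rw [if_neg hc] at hle
      rwa [mul_one]
  have e : Nat.card (ConjClasses C) = ∑ c, (Finset.univ.filter fun d => π d = c).card := by
    rw [Nat.card_eq_fintype_card, ← Finset.card_univ]
    exact Finset.card_eq_sum_card_fiberwise fun d _ => Finset.mem_univ _
  rw [e, Finset.mul_sum]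
  refine le_trans ?_ (Finset.sum_le_sum fun c _ => hper c)
  rw [← Finset.mul_sum]
  refine Nat.mul_le_mul_left _ (le_of_eq ?_)
  rw [Finset.sum_ite, Finset.sum_const, Finset.sum_const, smul_eq_mul, smul_eq_mul, mul_one,
    Nat.card_eq_fintype_card, ← Finset.card_univ, Finset.filter_mem_eq_inter, Finset.univ_inter,
    ← Finset.card_filter_add_card_filter_not (s := Finset.univ) (fun c => c ∈ T),
    Finset.filter_mem_eq_inter, Finset.univ_inter, Nat.sub_mul, one_mul, mul_comm f]
  have : T.card ≤ T.card * f := Nat.le_mul_of_pos_right _ hf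
  omega

end lifting

end CfsgLib.ClassesLower
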