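import Cfsg.Agent.Lib.SolvClass.Linear

/-!
An irreducible solvable linear group with an abelian normal subgroup spanning a field: the subgroup of bounded
index acting linearly over that field.
-/

set_option autoImplicit false
set_option linter.unusedSectionVars false
set_option linter.style.haveILetI false

namespace CfsgLib.ClassesLower

open Cfsg CfsgLib.SolvClass

universe u v w

variable {p : ℕ} [Fact p.Prime] {X : Type u} [Group X] [Finite X] [Group.IsSolvable X] {V : Type u}
  [AddCommGroup V] [Module (ZMod p) V] [Module.Finite (ZMod p) V] [Nontrivial V] (ρ : X →* (V ≃ₗ[ZMod p] V))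

/-- The linear structure over the field of a maximal abelian normal subgroup. -/
theorem field_data (hρ : Function.Injective ρ) (A : Subgroup X) [A.Normal]
    (hA : ∀ a ∈ A, ∀ b ∈ A, a * b = b * a)
    (hmax : ∀ B : Subgroup X, A ≤ B → B.Normal → (∀ a ∈ B, ∀ b ∈ B, a * b = b * a) → B = A)
    (hfield : ∀ x ∈ alg ρ A, x ≠ 0 → ∃ y ∈ alg ρ A, x * y = 1) :
    ∃ (e f : ℕ) (C : Subgroup X) (K : Type u) (_ : Field K) (_ : Finite K) (_ : Module K V)
      (_ : Module.Finite K V) (ρK : C →* (V ≃ₗ[K] V)),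
      1 ≤ e ∧ (¬ A ≤ scal ρ → 2 ≤ e) ∧ e * f = Module.finrank (ZMod p) V ∧ C.index ≤ e ∧ Nat.card K = p ^ e ∧
      Module.finrank K V = f ∧ Function.Injective ρK ∧
      (∀ B : Subgroup C, B.Characteristic → (∀ a ∈ B, ∀ b ∈ B, a * b = b * a) → B ≤ scal ρK) ∧
      (e = 1 → ∀ B : Subgroup C, B.Normal → (∀ a ∈ B, ∀ b ∈ B, a * b = b * a) → B ≤ scal ρK) ∧
      (∀ c ∈ C, ∀ a ∈ A, c * a = a * c) ∧
      (∀ x, x ∉ C → ∃ i, 1 ≤ i ∧ 2 * i ≤ e ∧ ∀ a ∈ A, x * a = a * x → a ^ (p ^ i - 1) = 1) ∧
      (∀ a ∈ A, a ^ (p ^ e - 1) = 1) ∧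
      (f = 1 → ∀ a b : C, a * b = b * a) := by
  classical
  have hp : p.Prime := Fact.out
  let K := alg ρ A
  have hfK : IsField K :=
    { exists_pair_ne := ⟨0, 1, fun h => by
        obtain ⟨x, hx⟩ := exists_ne (0 : V)
        exact hx (LinearMap.congr_fun (congrArg Subtype.val h) x).symm⟩
      mul_comm := fun x y => Subtype.ext (alg_comm ρ hA x.2 y.2)
      mul_inv_cancel := fun {x} hx => by
        obtain ⟨y, hy, hxy⟩ := hfield x x.2 fun h => hx (Subtype.ext h)
        exact ⟨⟨y, hy⟩, Subtype.ext hxy⟩ }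
  letI : Field K := hfK.toField
  haveI : Finite V := Module.finite_of_finite (ZMod p)
  haveI : Finite (Module.End (ZMod p) V) := Finite.of_injective _ DFunLike.coe_injective
  haveI : IsScalarTower (ZMod p) K V := ⟨fun _ _ _ => rfl⟩
  haveI : Module.Finite K V := Module.Finite.of_restrictScalars_finite (ZMod p) K V
  have hef := Module.finrank_mul_finrank (ZMod p) K V
  set e := Module.finrank (ZMod p) K with he
  set f := Module.finrank K V with hf
  have hcK : Nat.card K = p ^ e := by rw [Module.natCard_eq_pow_finrank (K := ZMod p), Nat.card_zmod]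
  have hsmul : ∀ (z : K) (x : V), z • x = (z : Module.End (ZMod p) V) x := fun _ _ => rfl
  have he2 : ¬ A ≤ scal ρ → 2 ≤ e := by
    intro hAs
    by_contra hlt
    refine hAs fun a ha => ?_
    have he1 : e = 1 := by
      have : 0 < e := Module.finrank_pos
      omega
    have hbot : K = ⊥ := Subalgebra.eq_bot_of_finrank_one he1
    have hmem : (ρ a : V →ₗ[ZMod p] V) ∈ K := mem_alg ρ ha
    rw [hbot] at hmem
    obtain ⟨c, hc⟩ := Algebra.mem_bot.mp hmem
    have hax : ∀ x, ρ a x = c • x := fun x => (LinearMap.congr_fun hc x).symm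
    refine ⟨Units.mk0 c fun h0 => ?_, hax⟩
    obtain ⟨x, hx⟩ := exists_ne (0 : V)
    exact hx ((ρ a).map_eq_zero_iff.mp (by rw [hax, h0, zero_smul]))
  -- conjugation on the field
  let ψf : X → (K ≃ₐ[ZMod p] K) := fun g =>
    { toFun := fun z => ⟨cjEnd ρ g z, cjEnd_mem_alg ρ g z.2⟩
      invFun := fun z => ⟨cjEnd ρ g⁻¹ z, cjEnd_mem_alg ρ g⁻¹ z.2⟩
      left_inv := fun z => Subtype.ext (by simp [cjEnd_cjEnd, cjEnd_one])
      right_inv := fun z => Subtype.ext (by simp [cjEnd_cjEnd, cjEnd_one])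
      map_mul' := fun y z => Subtype.ext (cjEnd_mul ρ g _ _)
      map_add' := fun y z => Subtype.ext (by simp [cjEnd, mul_add, add_mul])
      commutes' := fun c => Subtype.ext (LinearMap.ext fun x => by
        simp [cjEnd_apply, ← LinearEquiv.mul_apply, ← map_mul]) }
  let ψ : X →* (K ≃ₐ[ZMod p] K) := MonoidHom.mk' ψf fun g h =>
    AlgEquiv.ext fun z => Subtype.ext (cjEnd_cjEnd ρ g h z).symm
  have hgal : Nat.card (K ≃ₐ[ZMod p] K) ≤ e := le_of_eq_of_le Nat.card_eq_fintype_card AlgEquiv.card_le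
  let C := ψ.ker
  have hC : ∀ (c : C) (z : K) (x : V), ρ c (z • x) = z • ρ c x := by
    intro c z x
    have h := congrArg (fun φ : K ≃ₐ[ZMod p] K => ((φ z : K) : Module.End (ZMod p) V) (ρ c x))
      (MonoidHom.mem_ker.mp c.2)
    simp only [hsmul]
    refine Eq.trans ?_ h
    show ρ c _ = cjEnd ρ c z (ρ c x)
    simp [cjEnd_apply, ← LinearEquiv.mul_apply, ← map_mul]
  let ρK : C →* (V ≃ₗ[K] V) := MonoidHom.mk' (fun c => { (ρ c).toAddEquiv with map_smul' := hC c })
    fun c d => LinearEquiv.ext fun x => by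
      show ρ (c * d : C) x = ρ c (ρ d x)
      rw [Subgroup.coe_mul, map_mul]; rfl
  have hρK : Function.Injective ρK := fun c d h => Subtype.ext (hρ (LinearEquiv.ext fun x =>
    DFunLike.congr_fun h x))
  have hab : ∀ B : Subgroup C, (B.map C.subtype).Normal → (∀ a ∈ B, ∀ b ∈ B, a * b = b * a) → B ≤ scal ρK := by
    intro B hB hBc
    haveI := hB
    have hcomm : ∀ a ∈ A, ∀ b ∈ B.map C.subtype, a * b = b * a := by
      rintro a ha _ ⟨b, -, rfl⟩
      refine hρ (LinearEquiv.ext fun x => ?_)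
      rw [map_mul, map_mul, LinearEquiv.mul_apply, LinearEquiv.mul_apply]
      exact (hC b ⟨_, mem_alg ρ ha⟩ x).symm
    have hAB := hmax (A ⊔ B.map C.subtype) le_sup_left inferInstance (by
      intro x hx y hy
      obtain ⟨a, ha, b, hb, rfl⟩ := Subgroup.mem_sup_of_normal_left.mp hx
      obtain ⟨a', ha', b', hb', rfl⟩ := Subgroup.mem_sup_of_normal_left.mp hy
      have hbb : b * b' = b' * b := by
        obtain ⟨c, hc, rfl⟩ := hb
        obtain ⟨c', hc', rfl⟩ := hb'
        exact congrArg Subtype.val (hBc c hc c' hc')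
      calc a * b * (a' * b') = a * a' * (b * b') := by
            rw [mul_assoc, ← mul_assoc b, ← hcomm a' ha' b hb]; group
        _ = a' * a * (b' * b) := by rw [hA a ha a' ha', hbb]
        _ = a' * b' * (a * b) := by rw [mul_assoc, ← mul_assoc a, hcomm a ha b' hb']; group)
    intro b hb
    have hbA : (b : X) ∈ A := hAB ▸ Subgroup.mem_sup_right ⟨b, hb, rfl⟩
    refine ⟨Units.mk0 ⟨_, mem_alg ρ hbA⟩ fun h0 => ?_, fun x => rfl⟩
    obtain ⟨x, hx⟩ := exists_ne (0 : V)
    exact hx ((ρ (b : X)).map_eq_zero_iff.mp (LinearMap.congr_fun (congrArg Subtype.val h0) x))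
  have hcentral : ∀ c ∈ C, ∀ a ∈ A, c * a = a * c := by
    intro c hc a ha
    refine hρ (LinearEquiv.ext fun x => ?_)
    rw [map_mul, map_mul, LinearEquiv.mul_apply, LinearEquiv.mul_apply]
    exact hC ⟨c, hc⟩ ⟨_, mem_alg ρ ha⟩ x
  have hsplit : ∀ x, x ∉ C → ∃ i, 1 ≤ i ∧ 2 * i ≤ e ∧ ∀ a ∈ A, x * a = a * x → a ^ (p ^ i - 1) = 1 := by
    intro x hx
    let L : Subalgebra (ZMod p) K := AlgHom.equalizer (ψ x).toAlgHom (AlgHom.id (ZMod p) K)
    haveI : IsDomain L := inferInstance
    letI : Field L := (Finite.isField_of_domain L).toField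
    set i := Module.finrank (ZMod p) L with hi
    have hcL : Nat.card L = p ^ i := by rw [Module.natCard_eq_pow_finrank (K := ZMod p), Nat.card_zmod]
    have hlt : i < e := by
      rw [hi]
      show Module.finrank (ZMod p) (Subalgebra.toSubmodule L) < Module.finrank (ZMod p) K
      refine Submodule.finrank_lt (lt_of_le_of_ne le_top fun h => hx ?_).ne
      refine MonoidHom.mem_ker.mpr (AlgEquiv.ext fun z => ?_)
      have hz : z ∈ Subalgebra.toSubmodule L := h ▸ Submodule.mem_top
      exact hz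
    refine ⟨i, Module.finrank_pos, ?_, fun a ha hxa => ?_⟩
    · letI : Algebra L K := (L.val : L →ₐ[ZMod p] K).toRingHom.toAlgebra
      have hm : i * Module.finrank L K = e := by
        refine Nat.pow_right_injective hp.two_le ?_
        show p ^ (i * Module.finrank L K) = p ^ e
        rw [pow_mul, ← hcL, ← Module.natCard_eq_pow_finrank, hcK]
      have hm2 : 2 ≤ Module.finrank L K := by
        by_contra h
        have h' : Module.finrank L K = 0 ∨ Module.finrank L K = 1 := by omega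
        rcases h' with h' | h' <;> rw [h'] at hm <;> omega
      calc 2 * i ≤ Module.finrank L K * i := Nat.mul_le_mul_right _ hm2
        _ = e := by rw [mul_comm, hm]
    · have haK : (⟨_, mem_alg ρ ha⟩ : K) ∈ L := by
        refine Subtype.ext ?_
        show cjEnd ρ x (ρ a : V →ₗ[ZMod p] V) = (ρ a : V →ₗ[ZMod p] V)
        rw [cjEnd, SolvClass.coe_mul_coe, SolvClass.coe_mul_coe, hxa, mul_inv_cancel_right]
      have hne : (⟨⟨_, mem_alg ρ ha⟩, haK⟩ : L) ≠ 0 := fun h0 => by
        obtain ⟨v, hv⟩ := exists_ne (0 : V)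
        exact hv ((ρ a).map_eq_zero_iff.mp
          (LinearMap.congr_fun (congrArg (fun z : L => ((z : K) : Module.End (ZMod p) V)) h0) v))
      have h1 := units_pow_card_sub_one (k := L) (Units.mk0 _ hne)
      rw [hcL] at h1
      have h2 : ((ρ a : V →ₗ[ZMod p] V)) ^ (p ^ i - 1) = 1 :=
        congrArg (fun z : L => ((z : K) : Module.End (ZMod p) V)) (congrArg Units.val h1)
      refine hρ (LinearEquiv.toLinearMap_injective ?_)
      rw [map_one]
      refine Eq.trans ?_ h2
      have hpw : ∀ n : ℕ, (ρ (a ^ n) : V →ₗ[ZMod p] V) = (ρ a : V →ₗ[ZMod p] V) ^ n := by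
        intro n
        induction n with
        | zero => exact LinearMap.ext fun v => by simp
        | succ n ih => rw [pow_succ, pow_succ, ← ih, SolvClass.coe_mul_coe]
      exact hpw _
  have hunit : ∀ a ∈ A, a ^ (p ^ e - 1) = 1 := by
    intro a ha
    have hne : (⟨_, mem_alg ρ ha⟩ : K) ≠ 0 := fun h0 => by
      obtain ⟨v, hv⟩ := exists_ne (0 : V)
      exact hv ((ρ a).map_eq_zero_iff.mp (LinearMap.congr_fun (congrArg Subtype.val h0) v))
    have h1 := units_pow_card_sub_one (k := K) (Units.mk0 _ hne)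
    rw [hcK] at h1
    have h2 : ((ρ a : V →ₗ[ZMod p] V)) ^ (p ^ e - 1) = 1 :=
      congrArg (fun z : K => (z : Module.End (ZMod p) V)) (congrArg Units.val h1)
    refine hρ (LinearEquiv.toLinearMap_injective ?_)
    rw [map_one]
    refine Eq.trans ?_ h2
    have hpw : ∀ n : ℕ, (ρ (a ^ n) : V →ₗ[ZMod p] V) = (ρ a : V →ₗ[ZMod p] V) ^ n := by
      intro n
      induction n with
      | zero => exact LinearMap.ext fun v => by simp
      | succ n ih => rw [pow_succ, pow_succ, ← ih, SolvClass.coe_mul_coe]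
    exact hpw _
  refine ⟨e, f, C, K, inferInstance, inferInstance, inferInstance, inferInstance, ρK, Module.finrank_pos,
    he2, hef, ?_, hcK, rfl, hρK, fun B hB => ?_, fun he1 B hB => ?_, hcentral, hsplit, hunit, fun hf1 a b => ?_⟩
  · exact (Subgroup.index_ker ψ).trans_le ((Nat.card_le_card_of_injective _ Subtype.val_injective).trans hgal)
  · haveI := hB
    exact hab B inferInstance
  · refine hab B ⟨?_⟩
    have htop : ∀ g : X, g ∈ C := fun g => by
      have hsub : Subsingleton (K ≃ₐ[ZMod p] K) :=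
        Finite.card_le_one_iff_subsingleton.mp (hgal.trans he1.le)
      exact MonoidHom.mem_ker.mpr (Subsingleton.elim _ _)
    rintro _ ⟨b, hb, rfl⟩ g
    exact ⟨⟨g, htop g⟩ * b * ⟨g, htop g⟩⁻¹, hB.conj_mem b hb _, rfl⟩
  · obtain ⟨v, hv⟩ := exists_ne (0 : V)
    have hspan := (finrank_eq_one_iff_of_nonzero' v hv).mp (hf ▸ hf1 : Module.finrank K V = 1)
    refine hρK (LinearEquiv.ext fun x => ?_)
    obtain ⟨c, rfl⟩ := hspan x
    obtain ⟨ca, ha⟩ := hspan (ρK a v)
    obtain ⟨cb, hb⟩ := hspan (ρK b v)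
    simp only [map_mul, LinearEquiv.mul_apply, map_smul, ← ha, ← hb, smul_smul, mul_comm ca cb, mul_left_comm]

end CfsgLib.ClassesLower
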