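import Cfsg.Agent.Lib.ClassesLower.Core
import Cfsg.Agent.Lib.ClassesLower.Blocks

/-!
An irreducible solvable linear group over the field with `p` elements: classes plus orbits.
-/

set_option autoImplicit false
set_option linter.unusedSectionVars false
set_option linter.style.haveILetI false

namespace CfsgLib.ClassesLower

open Cfsg CfsgLib.SolvClass

universe u v w

theorem one_add_mul_le_choose : ∀ s t : ℕ, 1 + s * t ≤ (s + t).choose t := by
  intro s
  induction s with
  | zero => intro t; simp
  | succ s ih =>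
    intro t
    induction t with
    | zero => simp
    | succ t iht =>
      rw [show s + 1 + (t + 1) = (s + 1 + t) + 1 by ring, Nat.choose_succ_succ]
      have h2 : 1 + s * (t + 1) ≤ (s + 1 + t).choose (t + 1) := by
        rw [show s + 1 + t = s + (t + 1) by ring]; exact ih (t + 1)
      show 1 + (s + 1) * (t + 1) ≤ (s + 1 + t).choose t + (s + 1 + t).choose (t + 1)
      nlinarith

theorem five_quarters_choose : ∀ s, 2 ≤ s → ∀ t, 2 ≤ t → 5 * (s * t) + 4 ≤ 4 * (s + t).choose t := by
  have base : ∀ t, 2 ≤ t → 5 * (2 * t) + 4 ≤ 4 * (2 + t).choose t := by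
    intro t ht
    rw [Nat.choose_symm_of_eq_add (show 2 + t = t + 2 by ring)]
    have h : 2 * (2 + t).choose 2 = (2 + t) * (t + 1) := by
      rw [Nat.choose_two_right, show 2 + t - 1 = t + 1 by omega]
      have : 2 ∣ (2 + t) * (t + 1) := by
        rw [show 2 + t = (t + 1) + 1 by ring, mul_comm]
        exact (Nat.even_mul_succ_self (t + 1)).two_dvd
      exact Nat.mul_div_cancel' this
    nlinarith [Nat.mul_le_mul_right t ht]
  intro s hs
  induction s, hs using Nat.le_induction with
  | base => exact base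
  | succ s hs ih =>
    intro t ht
    induction t, ht using Nat.le_induction with
    | base =>
      have h := base (s + 1) (by omega)
      rw [show 2 + (s + 1) = s + 1 + 2 by ring, Nat.choose_symm_add] at h
      rwa [mul_comm (s + 1) 2]
    | succ t ht iht =>
      rw [show s + 1 + (t + 1) = (s + 1 + t) + 1 by ring, Nat.choose_succ_succ]
      have h2 : 5 * (s * (t + 1)) + 4 ≤ 4 * (s + 1 + t).choose (t + 1) := by
        rw [show s + 1 + t = s + (t + 1) by ring]; exact ih (t + 1) (by omega)
      show 5 * ((s + 1) * (t + 1)) + 4 ≤ 4 * ((s + 1 + t).choose t + (s + 1 + t).choose (t + 1))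
      nlinarith

/-- The inequality for monomial groups. -/
theorem monomial_arith {p t T : ℕ} (hp : 11 ≤ p) (ht : 2 ≤ t) (h1 : T ≤ t.factorial) (h2 : T ≤ 3 ^ (t - 1)) :
    2401 * p ^ 2 * T ^ 2 ≤ 14400 * (p ^ t - 1) := by
  have key : 2401 * T ^ 2 ≤ 14256 * 11 ^ (t - 2) := by
    rcases Nat.lt_or_ge t 5 with h | h
    · refine le_trans (Nat.mul_le_mul_left _ (Nat.pow_le_pow_left h1 2)) ?_
      interval_cases t <;> decide
    · refine le_trans (Nat.mul_le_mul_left _ (Nat.pow_le_pow_left h2 2)) ?_
      clear h1 h2 ht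
      induction t, h using Nat.le_induction with
      | base => norm_num
      | succ t h ih =>
        rw [show t + 1 - 2 = (t - 2) + 1 by omega, show t + 1 - 1 = (t - 1) + 1 by omega, pow_succ 3, pow_succ 11,
          mul_pow]
        nlinarith
  have hpow : p ^ t = p ^ (t - 2) * p ^ 2 := by rw [← pow_add]; congr 1; omega
  calc 2401 * p ^ 2 * T ^ 2 = 2401 * T ^ 2 * p ^ 2 := by ring
    _ ≤ 14256 * p ^ (t - 2) * p ^ 2 :=
      Nat.mul_le_mul_right _ (key.trans (Nat.mul_le_mul_left _ (Nat.pow_le_pow_left hp _)))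
    _ = 144 * (99 * p ^ t) := by rw [hpow]; ring
    _ ≤ 144 * (100 * (p ^ t - 1)) := Nat.mul_le_mul_left _ (pred_pow_ge (by omega) ht)
    _ = _ := by ring

/-- The blocks step. -/
theorem good_of_blocks {p k o k₁ s t : ℕ} [Fact p.Prime] (hp : 11 ≤ p) (ht : 2 ≤ t) (hk : k₁ ≤ t * k)
    (ho : (s + t).choose t ≤ o + 1) (hs : 1 ≤ s) (h : Good p k₁ s) : Good p k o := by
  have hC := one_add_mul_le_choose s t
  have h1 : t * (k₁ * s) ≤ t * (k * o) := by
    calc t * (k₁ * s) = k₁ * (s * t) := by ring
      _ ≤ t * k * o := Nat.mul_le_mul hk (by omega)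
      _ = _ := mul_assoc _ _ _
  have hle : k₁ * s ≤ k * o := Nat.le_of_mul_le_mul_left h1 (by omega)
  rcases h with h | ⟨-, h6, hone⟩
  · exact Or.inl (h.trans (Nat.mul_le_mul_left _ hle))
  have hsq : 121 ≤ p ^ 2 := Nat.pow_le_pow_left hp 2
  rcases Nat.lt_or_ge s 2 with hs2 | hs2
  · obtain rfl : s = 1 := by omega
    have hp23 := hone rfl
    refine Or.inr ⟨?_, h6.trans (Nat.mul_le_mul_left _ hle), fun ho1 => ?_⟩
    · have h4 : 4 * (p ^ 2 - 1) ≤ 6 * ((k + o) * (k + o)) := by
        have := four_mul_le_sq_add k o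
        have := h6.trans (Nat.mul_le_mul_left _ hle)
        nlinarith
      have hsmall : ∀ c, 6 * (c * c) < 4 * (p ^ 2 - 1) → c < k + o := fun c hc => by
        by_contra hlt
        have := Nat.mul_self_le_mul_self (not_lt.mp hlt)
        omega
      have hpr : p.Prime := Fact.out
      interval_cases p <;> first | (exfalso; revert hpr; norm_num; done) | skip
      · have := hsmall 8 (by norm_num); omega
      · have := hsmall 10 (by norm_num); omega
      · have := hsmall 13 (by norm_num); omega
      · have := hsmall 15 (by norm_num); omega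
      · have := hsmall 18 (by norm_num); omega
    · subst ho1
      omega
  · refine Or.inl ?_
    have h5 := five_quarters_choose s hs2 t ht
    have h2 : t * (5 * (k₁ * s)) ≤ t * (4 * (k * o)) := by
      calc t * (5 * (k₁ * s)) = k₁ * (5 * (s * t)) := by ring
        _ ≤ t * k * (4 * o) := Nat.mul_le_mul hk (by omega)
        _ = _ := by ring
    have h3 := Nat.le_of_mul_le_mul_left h2 (by omega)
    omega

section linear

variable {p : ℕ} [Fact p.Prime]

/-- The invariant for irreducible groups. -/
theorem good_of_irreducible (hp : 11 ≤ p) : ∀ (n : ℕ) {X : Type u} [Group X] [Finite X] [Group.IsSolvable X]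
    {V : Type u} [AddCommGroup V] [Module (ZMod p) V] [Module.Finite (ZMod p) V] (ρ : X →* (V ≃ₗ[ZMod p] V)),
    Function.Injective ρ → Module.finrank (ZMod p) V = n → 2 ≤ n →
    (∀ U : Submodule (ZMod p) V, (∀ g, ∀ x ∈ U, ρ g x ∈ U) → U = ⊥ ∨ U = ⊤) →
    Good p (Nat.card (ConjClasses X)) (numOrb ρ) := by
  intro n
  induction n using Nat.strong_induction_on with
  | _ n ih =>
  intro X _ _ _ V _ _ _ ρ hρ hdim hn hirr
  classical
  haveI : Nontrivial V := Module.nontrivial_of_finrank_pos (R := ZMod p) (by omega)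
  haveI : Finite V := Module.finite_of_finite (ZMod p)
  have hV : Nat.card V = p ^ n := by
    rw [Module.natCard_eq_pow_finrank (K := ZMod p), Nat.card_zmod, hdim]
  have horb := numOrb_mul_ge ρ
  rw [hV] at horb
  obtain ⟨A, -, ⟨⟨hAn, hAc⟩, hAmax⟩⟩ := (Set.toFinite
    {B : Subgroup X | B.Normal ∧ ∀ a ∈ B, ∀ b ∈ B, a * b = b * a}).exists_le_maximal (a := ⊥)
      ⟨inferInstance, fun a ha b hb => by rw [Subgroup.mem_bot.mp ha, Subgroup.mem_bot.mp hb]⟩
  haveI := hAn
  rcases exists_blocks ρ hAc (coprime_of_irreducible ρ hρ hirr A hAc) with hf | ⟨D, hD2, htr⟩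
  · obtain ⟨e, f, C, K, iK, iKf, iM, iMF, ρK, he1, -, hef, hidx, hK, hfK, hρK, hab, hns, -⟩ :=
      field_data ρ hρ A hAc (fun B hle hBn hBc => le_antisymm (hAmax ⟨hBn, hBc⟩ hle) hle) hf
    refine core ρK hp hρK he1 (by rw [hef, hdim]; exact hn) hK hfK hab hns
      ((Cfsg.Agent.S4200.result C).1.trans (Nat.mul_le_mul_right _ hidx)) ?_
    rw [hef, hdim]
    refine horb.trans (Nat.mul_le_mul_left _ ?_)
    rw [← Subgroup.index_mul_card C]
    exact Nat.mul_le_mul_right _ hidx
  · replace htr := htr hirr
    obtain ⟨e₀, he₀⟩ : D.E.Nonempty := Finset.card_pos.mp (by omega)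
    haveI : Nonempty D.E := ⟨⟨e₀, he₀⟩⟩
    set t := D.E.card with htdef
    set m := Module.finrank (ZMod p) (LinearMap.range e₀) with hmdef
    have hm : ∀ e : D.E, Module.finrank (ZMod p) (LinearMap.range (e : Module.End (ZMod p) V)) = m := fun e => by
      obtain ⟨g, hg⟩ := htr e e.2 e₀ he₀
      exact D.finrank_eq_of_conj (f := ⟨e₀, he₀⟩) hg
    have htm : t * m = n := by
      rw [← hdim, ← D.sum_finrank, Finset.sum_congr rfl fun e _ => hm e, Finset.sum_const, Finset.card_univ,
        Fintype.card_coe, smul_eq_mul]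
    have hm0 : 1 ≤ m := by
      rcases Nat.eq_zero_or_pos m with h | h
      · rw [h, mul_zero] at htm; omega
      · exact h
    rcases Nat.lt_or_ge m 2 with hm2 | hm2
    · -- monomial
      obtain hm1 : m = 1 := by omega
      rw [hm1, mul_one] at htm
      set B := D.permHom.ker with hBdef
      have hBcomm : ∀ a b : B, a * b = b * a := by
        intro a b
        refine inv_mul_eq_one.mp (D.eq_one_of_res hρ ((a * b)⁻¹ * (b * a)) fun e => ?_)
        let f := (D.res e).comp (Subgroup.inclusion (D.ker_le_stab e))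
        show f ((a * b)⁻¹ * (b * a)) = 1
        rw [map_mul, map_inv, inv_mul_eq_one, map_mul, map_mul]
        obtain ⟨v, hv⟩ : ∃ v : LinearMap.range (e : Module.End (ZMod p) V), v ≠ 0 := by
          haveI := Module.nontrivial_of_finrank_pos (R := ZMod p)
            (M := LinearMap.range (e : Module.End (ZMod p) V)) (by rw [hm e, hm1]; norm_num)
          exact exists_ne 0
        have hline := (finrank_eq_one_iff_of_nonzero' v hv).mp ((hm e).trans hm1)
        refine LinearEquiv.ext fun x => ?_
        obtain ⟨c, rfl⟩ := hline x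
        obtain ⟨ca, ha⟩ := hline (f a v)
        obtain ⟨cb, hb⟩ := hline (f b v)
        rw [LinearEquiv.mul_apply, LinearEquiv.mul_apply, map_smul, map_smul, map_smul, map_smul, ← ha, ← hb,
          map_smul, map_smul, ← ha, ← hb, smul_comm ca cb]
      set T := Nat.card D.permHom.range with hTdef
      have hidxB : B.index = T := Subgroup.index_ker _
      have hT1 : T ≤ t.factorial := by
        refine (Subgroup.card_le_card_group _).trans (le_of_eq ?_)
        rw [Nat.card_perm, Nat.card_eq_fintype_card, Fintype.card_coe]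
      have hT2 : T ≤ 3 ^ (t - 1) := by
        haveI : Group.IsSolvable D.permHom.range :=
          Group.isSolvable_of_surjective (MonoidHom.rangeRestrict_surjective _)
        exact solvable_perm_card _ D.permHom.range (by rw [Nat.card_eq_fintype_card, Fintype.card_coe])
      have hkB := (Cfsg.Agent.S4200.result B).1
      rw [card_conjClasses_of_comm hBcomm, hidxB] at hkB
      rw [← Subgroup.index_mul_card B, hidxB, ← htm] at horb
      refine Or.inl ?_
      have hTpos : 0 < T ^ 2 := pow_pos Nat.card_pos _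
      refine Nat.le_of_mul_le_mul_right ?_ hTpos
      refine (monomial_arith hp hD2 hT1 hT2).trans ?_
      rw [mul_assoc 14400]
      refine Nat.mul_le_mul_left _ (horb.trans ?_)
      calc numOrb ρ * (T * Nat.card B) ≤ numOrb ρ * (T * (T * Nat.card (ConjClasses X))) :=
            Nat.mul_le_mul_left _ (Nat.mul_le_mul_left _ hkB)
        _ = _ := by ring
    · -- blocks of dimension at least two
      let e : D.E := ⟨e₀, he₀⟩
      have hmn : m < n := by rw [← htm]; exact lt_mul_of_one_lt_left (by omega) hD2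
      have hm' : Module.finrank (ZMod p) (LinearMap.range (e : Module.End (ZMod p) V)) = m := rfl
      haveI : Nontrivial (LinearMap.range (e : Module.End (ZMod p) V)) :=
        Module.nontrivial_of_finrank_pos (R := ZMod p) (by rw [hm']; omega)
      haveI : Finite (LinearMap.range (e : Module.End (ZMod p) V)) := Subtype.finite
      have hgood := ih m hmn (QuotientGroup.kerLift (D.res e)) (QuotientGroup.kerLift_injective _) hm' hm2
        fun U hU => D.stab_irreducible hirr e U fun g x hx => hU (QuotientGroup.mk g) x hx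
      have hres : numOrb (QuotientGroup.kerLift (D.res e)) = numOrb (D.res e) := by
        rw [← numOrb_comp (QuotientGroup.mk' (D.res e).ker) (QuotientGroup.mk'_surjective _)]
        rfl
      rw [hres] at hgood
      have hmc := multichoose_le_orbits D e fun f hf => htr e e.2 f hf
      rw [Nat.multichoose_eq] at hmc
      refine good_of_blocks hp hD2 ?_ (le_of_eq_of_le (by congr 1; omega) hmc) (one_le_numOrb _) hgood
      refine (SolvClass.card_conjClasses_congr_le (QuotientGroup.mk' _) (QuotientGroup.mk'_surjective _)).trans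
        ((Cfsg.Agent.S4200.result (D.stab e)).1.trans (Nat.mul_le_mul_right _ (index_stab_le D e)))

/-- Classes plus orbits, for every prime. -/
theorem classes_add_orbits_ge {X : Type u} [Group X] [Finite X] [Group.IsSolvable X] {V : Type u} [AddCommGroup V]
    [Module (ZMod p) V] [Module.Finite (ZMod p) V] (ρ : X →* (V ≃ₗ[ZMod p] V)) (hρ : Function.Injective ρ)
    (hn : 2 ≤ Module.finrank (ZMod p) V)
    (hirr : ∀ U : Submodule (ZMod p) V, (∀ g, ∀ x ∈ U, ρ g x ∈ U) → U = ⊥ ∨ U = ⊤) :
    49 * p ≤ 60 * (Nat.card (ConjClasses X) + numOrb ρ) := by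
  rcases Nat.lt_or_ge p 11 with hp | hp
  · haveI : Nontrivial V := Module.nontrivial_of_finrank_pos (R := ZMod p) (by omega)
    haveI : Finite V := Module.finite_of_finite (ZMod p)
    have horb := numOrb_mul_ge ρ
    have ho1 := one_le_numOrb ρ
    have hV : p ^ 2 ≤ Nat.card V := by
      rw [Module.natCard_eq_pow_finrank (K := ZMod p), Nat.card_zmod]
      exact Nat.pow_le_pow_right (Fact.out : p.Prime).pos hn
    have hb : ∀ b, Nat.card X ≤ b → p ^ 2 - 1 ≤ numOrb ρ * b := fun b h =>
      le_trans (Nat.sub_le_sub_right hV 1) (horb.trans (Nat.mul_le_mul_left _ h))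
    have hk1 : 1 ≤ Nat.card (ConjClasses X) := one_le_card_conjClasses
    have h2 : Nat.card (ConjClasses X) ≤ 1 → p ^ 2 - 1 ≤ numOrb ρ * 1 := fun h => hb 1 (card_le_of_classes_le_one h)
    have h3 : Nat.card (ConjClasses X) ≤ 3 → p ^ 2 - 1 ≤ numOrb ρ * 6 := fun h => hb 6 (card_le_of_classes_le_three h)
    have h4 : Nat.card (ConjClasses X) ≤ 4 → p ^ 2 - 1 ≤ numOrb ρ * 42 := fun h => hb 42 (card_le_of_classes_le_four h)
    have hpr : p.Prime := Fact.out
    have := hpr.two_le
    interval_cases p <;> first | (exfalso; revert hpr; norm_num; done) | (norm_num at h2 h3 h4 ⊢; omega)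
  · exact sum_ge_of_good (good_of_irreducible hp _ ρ hρ rfl hn hirr)

end linear

end CfsgLib.ClassesLower
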