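import Cfsg.Agent.Lib.ClassesLower.Linear
import Cfsg.Agent.Lib.Elementary

/-!
A solvable group of order divisible by `p²` has at least `49 p / 60` classes.
-/

set_option autoImplicit false
set_option linter.unusedSectionVars false
set_option linter.style.haveILetI false

namespace CfsgLib.ClassesLower

open Cfsg CfsgLib.SolvClass
open scoped commutatorElement

universe u

variable {G : Type u} [Group G] [Finite G]

/-- The linear action attached to an action on an elementary abelian group. -/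
def linRep {A : Type u} [CommGroup A] {p : ℕ} [Module (ZMod p) (Additive A)] (φ : G →* MulAut A) :
    G →* (Additive A ≃ₗ[ZMod p] Additive A) where
  toFun y := (MulEquiv.toAdditive (φ y)).toLinearEquiv fun c x =>
    ZMod.map_smul (MulEquiv.toAdditive (φ y)).toAddMonoidHom c x
  map_one' := LinearEquiv.ext fun x => by
    show Additive.ofMul (φ 1 x.toMul) = x
    rw [map_one]; rfl
  map_mul' y z := LinearEquiv.ext fun x => by
    show Additive.ofMul (φ (y * z) x.toMul) = Additive.ofMul (φ y (φ z x.toMul))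
    rw [map_mul, MulAut.mul_apply]

/-- The action on a minimal normal elementary subgroup. -/
theorem minimal_action {p n : ℕ} [Fact p.Prime] (N : Subgroup G) [N.Normal]
    (hcomm : ∀ x ∈ N, ∀ y ∈ N, x * y = y * x) (hexp : ∀ x ∈ N, x ^ p = 1) (hcard : Nat.card N = p ^ n)
    (hmin : ∀ M : Subgroup G, M.Normal → M ≤ N → M = ⊥ ∨ M = N) :
    ∃ (V : Type u) (_ : AddCommGroup V) (_ : Module (ZMod p) V) (_ : Module.Finite (ZMod p) V)
      (ρ : G →* (V ≃ₗ[ZMod p] V)), Module.finrank (ZMod p) V = n ∧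
      (∀ U : Submodule (ZMod p) V, (∀ y : G ⧸ ρ.ker, ∀ x ∈ U, QuotientGroup.kerLift ρ y x ∈ U) → U = ⊥ ∨ U = ⊤) ∧
      (∀ g, g ∈ ρ.ker ↔ ∀ x ∈ N, g * x = x * g) ∧
      Nat.card (ConjClasses (G ⧸ ρ.ker)) + numOrb (QuotientGroup.kerLift ρ) ≤ Nat.card (ConjClasses G) := by
  classical
  letI : CommGroup N :=
    { (inferInstance : Group N) with mul_comm := fun a b => Subtype.ext (hcomm a a.2 b b.2) }
  have hexp' : ∀ a : Additive N, p • a = 0 := fun a =>
    Additive.toMul.injective (Subtype.ext (hexp ((Additive.toMul a : N) : G) (Additive.toMul a : N).2))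
  letI : Module (ZMod p) (Additive N) := @AddCommGroup.zmodModule p (Additive N) Additive.addCommGroup hexp'
  haveI : Finite (Additive N) := Finite.of_equiv N Additive.ofMul
  let ρ : G →* (Additive N ≃ₗ[ZMod p] Additive N) := linRep (MulAut.conjNormal (H := N))
  have hρ : ∀ y (x : Additive N), (((ρ y x).toMul : N) : G) = y * ((x.toMul : N) : G) * y⁻¹ := fun y x => rfl
  have hdim : Module.finrank (ZMod p) (Additive N) = n := by
    have h1 := Module.natCard_eq_pow_finrank (K := ZMod p) (V := Additive N)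
    rw [Nat.card_congr Additive.toMul, hcard, Nat.card_zmod] at h1
    exact (Nat.pow_right_injective (Fact.out : p.Prime).two_le h1).symm
  have hirr : ∀ U : Submodule (ZMod p) (Additive N),
      (∀ y : G ⧸ ρ.ker, ∀ x ∈ U, QuotientGroup.kerLift ρ y x ∈ U) → U = ⊥ ∨ U = ⊤ := by
    intro U hU
    let S : Subgroup N := U.toAddSubgroup.toSubgroup'
    rcases hmin (S.map N.subtype) ⟨by
      rintro _ ⟨w, hw, rfl⟩ y
      exact ⟨MulAut.conjNormal y w, hU (QuotientGroup.mk y) (Additive.ofMul w) hw, rfl⟩⟩ (Subgroup.map_subtype_le _) with h | h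
    · rw [Subgroup.map_eq_bot_iff_of_injective _ N.subtype_injective] at h
      refine Or.inl ((Submodule.eq_bot_iff U).mpr fun x hx => ?_)
      have : (x.toMul : N) ∈ S := hx
      rw [h, Subgroup.mem_bot] at this
      exact congrArg Additive.ofMul this
    · refine Or.inr (eq_top_iff.mpr fun x _ => ?_)
      have : ((x.toMul : N) : G) ∈ S.map N.subtype := h.symm ▸ (x.toMul : N).2
      obtain ⟨w, hw, hwx⟩ := this
      have hwx' : w = x.toMul := N.subtype_injective hwx
      rw [hwx'] at hw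
      exact hw
  have hmem : ∀ g, g ∈ ρ.ker ↔ ∀ x ∈ N, g * x = x * g := fun g => by
    constructor
    · intro hg x hx
      have e : ρ g (Additive.ofMul (⟨x, hx⟩ : N)) = Additive.ofMul ⟨x, hx⟩ := by
        rw [MonoidHom.mem_ker.mp hg]; rfl
      exact mul_inv_eq_iff_eq_mul.mp ((hρ g _).symm.trans (congrArg (fun z : Additive N => ((z.toMul : N) : G)) e))
    · intro hg
      refine MonoidHom.mem_ker.mpr (LinearEquiv.ext fun v => Additive.toMul.injective (Subtype.ext ?_))
      rw [hρ, hg _ ((v.toMul : N)).2, mul_inv_cancel_right]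
      rfl
  have horb : numOrb (QuotientGroup.kerLift ρ) ≤ (classesIn N).ncard := by
    rw [← numOrb_comp (QuotientGroup.mk' ρ.ker) (QuotientGroup.mk'_surjective _),
      show (QuotientGroup.kerLift ρ).comp (QuotientGroup.mk' ρ.ker) = ρ from rfl, numOrb,
      ← Nat.card_coe_set_eq, ← Nat.card_coe_set_eq]
    let rep : orbSet ρ → Additive N := fun S => S.2.choose
    have hrep : ∀ S : orbSet ρ, rep S ≠ 0 ∧ (Set.range fun y => ρ y (rep S)) = (S : Set (Additive N)) := fun S =>
      S.2.choose_spec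
    refine Nat.card_le_card_of_injective (fun S => (⟨ConjClasses.mk (((rep S).toMul : N) : G),
      ((rep S).toMul : N), ((rep S).toMul : N).2, fun e => (hrep S).1 ?_, rfl⟩ : classesIn N)) ?_
    · exact Additive.toMul.injective (Subtype.ext e)
    · intro S T e
      obtain ⟨y, hy⟩ := isConj_iff.mp (ConjClasses.mk_eq_mk_iff_isConj.mp (congrArg Subtype.val e))
      have hy' : ρ y (rep S) = rep T := Additive.toMul.injective (Subtype.ext ((hρ y _).trans hy))
      refine Subtype.ext ?_
      rw [← (hrep S).2, ← (hrep T).2, ← hy']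
      ext v
      constructor
      · rintro ⟨x, rfl⟩
        exact ⟨x * y⁻¹, by simp [← LinearEquiv.mul_apply, ← map_mul]⟩
      · rintro ⟨x, rfl⟩
        exact ⟨x * y, by simp [LinearEquiv.mul_apply]⟩
  have hle : N ≤ ρ.ker := fun x hx => MonoidHom.mem_ker.mpr (LinearEquiv.ext fun v =>
    Additive.toMul.injective (Subtype.ext (by
      rw [hρ, hcomm x hx _ ((v.toMul : N)).2, mul_inv_cancel_right]; rfl)))
  have hk : Nat.card (ConjClasses (G ⧸ ρ.ker)) ≤ Nat.card (ConjClasses (G ⧸ N)) :=
    SolvClass.card_conjClasses_congr_le (QuotientGroup.map N ρ.ker (MonoidHom.id G) hle)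
      fun x => QuotientGroup.induction_on x fun g => ⟨(g : G ⧸ N), rfl⟩
  haveI : Module.Finite (ZMod p) (Additive N) := Module.Finite.of_finite
  refine ⟨Additive N, inferInstance, inferInstance, inferInstance, ρ, hdim, hirr, hmem, ?_⟩
  have := card_quotient_add_classesIn N
  omega

/-- A minimal normal elementary subgroup of rank at least two. -/
theorem bound_of_minimal [Group.IsSolvable G] {p n : ℕ} [Fact p.Prime] (N : Subgroup G) [N.Normal]
    (hcomm : ∀ x ∈ N, ∀ y ∈ N, x * y = y * x) (hexp : ∀ x ∈ N, x ^ p = 1) (hcard : Nat.card N = p ^ n)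
    (hn : 2 ≤ n) (hmin : ∀ M : Subgroup G, M.Normal → M ≤ N → M = ⊥ ∨ M = N) :
    49 * p ≤ 60 * Nat.card (ConjClasses G) := by
  obtain ⟨V, iV, iM, iF, ρ, hdim, hirr, -, hle⟩ := minimal_action N hcomm hexp hcard hmin
  have hmain := classes_add_orbits_ge (QuotientGroup.kerLift ρ) (QuotientGroup.kerLift_injective ρ)
    (hdim ▸ hn) hirr
  omega

/-- Automorphisms of a group of prime order commute. -/
theorem mulAut_comm {p : ℕ} [Fact p.Prime] {A : Type u} [Group A] [Finite A] (hA : Nat.card A = p) (s t : MulAut A) :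
    s * t = t * s := by
  haveI : IsCyclic A := isCyclic_of_prime_card hA
  obtain ⟨x, hx⟩ := IsCyclic.exists_generator (α := A)
  obtain ⟨i, hi⟩ := hx (s x)
  obtain ⟨j, hj⟩ := hx (t x)
  refine MulEquiv.ext fun y => ?_
  obtain ⟨l, rfl⟩ := hx y
  simp only [MulAut.mul_apply, map_zpow, ← hi, ← hj]
  rw [← zpow_mul, ← zpow_mul, ← zpow_mul, ← zpow_mul, mul_left_comm i j l]

/-- The case of a Fitting subgroup of order `p²`. -/
theorem bound_of_square {p : ℕ} [Fact p.Prime] (W : Subgroup G) [W.Normal] (N : Subgroup G) [N.Normal]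
    (hNW : N ≤ W) (hN : Nat.card N = p) (hW : Nat.card W = p ^ 2)
    (hWc : ∀ x ∈ W, ∀ y ∈ W, x * y = y * x) (hself : Subgroup.centralizer (W : Set G) ≤ W)
    (hco : ¬ p ∣ W.index) : 49 * p ≤ 60 * Nat.card (ConjClasses G) := by
  have hp : p.Prime := Fact.out
  have key : ∀ (A : Type u) [Group A] [Finite A], Nat.card A = p → ∀ s t : MulAut A, s * t = t * s :=
    fun A _ _ hA => mulAut_comm hA
  have habel : ∀ a b : G, ⁅a, b⁆ ∈ W := by
    intro a b
    set c := ⁅a, b⁆ with hc
    -- trivial on `N`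
    let cN : G →* MulAut N := MulAut.conjNormal
    have hcN : ∀ x ∈ N, c * x * c⁻¹ = x := by
      intro x hx
      have h1 : cN c = 1 := by
        rw [hc, map_commutatorElement, commutatorElement_eq_one_iff_mul_comm]
        exact key N hN _ _
      exact congrArg (fun s : MulAut N => ((s ⟨x, hx⟩ : N) : G)) h1
    -- trivial on `W ⧸ N`
    let cW : G →* MulAut W := MulAut.conjNormal
    let N' : Subgroup W := N.subgroupOf W
    have hmap : ∀ g, N'.map (cW g).toMonoidHom = N' := by
      intro g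
      ext x
      constructor
      · rintro ⟨z, hz, rfl⟩
        show g * (z : G) * g⁻¹ ∈ N
        exact ‹N.Normal›.conj_mem _ hz g
      · intro hx
        refine ⟨cW g⁻¹ x, ?_, by simp⟩
        show g⁻¹ * (x : G) * g⁻¹⁻¹ ∈ N
        exact ‹N.Normal›.conj_mem _ hx g⁻¹
    let cQ : G →* MulAut (W ⧸ N') := MonoidHom.mk' (fun g => QuotientGroup.congr N' N' (cW g) (hmap g))
      fun g h => MulEquiv.ext fun x => QuotientGroup.induction_on x fun z =>
        congrArg QuotientGroup.mk (DFunLike.congr_fun (map_mul cW g h) z)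
    have hQcard : Nat.card (W ⧸ N') = p := by
      have h := Subgroup.card_eq_card_quotient_mul_card_subgroup N'
      rw [Nat.card_congr (Subgroup.subgroupOfEquivOfLe hNW).toEquiv, hN, hW, sq] at h
      exact (Nat.eq_of_mul_eq_mul_right hp.pos h).symm
    have hcW : ∀ x ∈ W, x⁻¹ * (c * x * c⁻¹) ∈ N := by
      intro x hx
      have h1 : cQ c = 1 := by
        rw [hc, map_commutatorElement, commutatorElement_eq_one_iff_mul_comm]
        exact key (W ⧸ N') hQcard _ _
      have h2 : ((cW c ⟨x, hx⟩ : W) : W ⧸ N') = ((⟨x, hx⟩ : W) : W ⧸ N') :=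
        DFunLike.congr_fun h1 ((⟨x, hx⟩ : W) : W ⧸ N')
      have h3 := QuotientGroup.eq.mp h2.symm
      exact h3
    have hpow : c ^ p ∈ W := by
      refine hself (Subgroup.mem_centralizer_iff.mpr fun x hx => ?_)
      set d := x⁻¹ * (c * x * c⁻¹) with hd
      have hdN : d ∈ N := hcW x hx
      have hi : ∀ i : ℕ, c ^ i * x * (c ^ i)⁻¹ = x * d ^ i := by
        intro i
        induction i with
        | zero => simp
        | succ i ih =>
          calc c ^ (i + 1) * x * (c ^ (i + 1))⁻¹ = c * (c ^ i * x * (c ^ i)⁻¹) * c⁻¹ := by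
                rw [pow_succ']; group
            _ = (c * x * c⁻¹) * (c * d ^ i * c⁻¹) := by rw [ih]; group
            _ = x * d * d ^ i := by
                rw [hcN _ (pow_mem hdN i), show c * x * c⁻¹ = x * d by rw [hd]; group]
            _ = x * d ^ (i + 1) := by rw [pow_succ', mul_assoc]
      have hdp : d ^ p = 1 := by
        have := congrArg Subtype.val (pow_card_eq_one' (x := (⟨d, hdN⟩ : N)))
        rwa [hN] at this
      have := hi p
      rw [hdp, mul_one, mul_inv_eq_iff_eq_mul] at this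
      exact this.symm
    -- the image in `G ⧸ W` has order dividing `p`
    have h1 : ((c : G) : G ⧸ W) ^ p = 1 := by
      rw [← QuotientGroup.mk_pow]; exact (QuotientGroup.eq_one_iff _).mpr hpow
    rcases (Nat.dvd_prime hp).mp (orderOf_dvd_of_pow_eq_one h1) with h | h
    · exact (QuotientGroup.eq_one_iff c).mp (orderOf_eq_one_iff.mp h)
    · exact absurd (Subgroup.index_eq_card W ▸ h ▸ orderOf_dvd_natCard (G := G ⧸ W) _) hco
  have hQ : ∀ x y : G ⧸ W, x * y = y * x := by
    intro x y
    induction x using QuotientGroup.induction_on with | _ a => ?_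
    induction y using QuotientGroup.induction_on with | _ b => ?_
    rw [← QuotientGroup.mk_mul, ← QuotientGroup.mk_mul, QuotientGroup.eq]
    rw [show (a * b)⁻¹ * (b * a) = ⁅b⁻¹, a⁻¹⁆ by simp only [commutatorElement_def]; group]
    exact habel _ _
  have h1 := card_quotient_add_classesIn W
  have h2 := classesIn_mul_ge W W hWc
  rw [card_conjClasses_of_comm hQ, ← Subgroup.index_eq_card] at h1
  rw [hW] at h2
  set h := W.index
  set o := (classesIn W).ncard
  refine Nat.le_trans ?_ (Nat.mul_le_mul_left 60 h1)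
  refine Nat.mul_self_le_mul_self_iff.mp ?_
  have h3 : 4 * (h * o) ≤ (h + o) * (h + o) := by
    have := four_mul_le_sq_add h o
    nlinarith
  have h4 : p ^ 2 ≥ 4 := by nlinarith [hp.two_le]
  have h5 : p ^ 2 - 1 ≤ h * o := by rwa [mul_comm] at h2
  calc 49 * p * (49 * p) = 2401 * p ^ 2 := by ring
    _ ≤ 14400 * (p ^ 2 - 1) := by omega
    _ ≤ 14400 * (h * o) := Nat.mul_le_mul_left _ h5
    _ = 3600 * (4 * (h * o)) := by ring
    _ ≤ 3600 * ((h + o) * (h + o)) := Nat.mul_le_mul_left _ h3
    _ = 60 * (h + o) * (60 * (h + o)) := by ring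

/-- Solvable groups of order divisible by `p²`. -/
theorem classes_ge {p : ℕ} [Fact p.Prime] : ∀ (n : ℕ) (G : Type u) [Group G] [Finite G] [Group.IsSolvable G],
    Nat.card G = n → p ^ 2 ∣ n → 49 * p ≤ 60 * Nat.card (ConjClasses G) := by
  intro n
  induction n using Nat.strong_induction_on with
  | _ n ih =>
  intro G _ _ _ hn hdvd
  classical
  have hp : p.Prime := Fact.out
  have hquot : ∀ M : Subgroup G, M.Normal → M ≠ ⊥ → p ^ 2 ∣ M.index →
      49 * p ≤ 60 * Nat.card (ConjClasses G) := by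
    intro M hM hM1 hd
    have hlt : M.index < n := by
      rw [← hn, ← M.index_mul_card]
      exact lt_mul_of_one_lt_right (Nat.pos_of_ne_zero Subgroup.index_ne_zero_of_finite)
        ((Subgroup.one_lt_card_iff_ne_bot M).mpr hM1)
    refine (ih _ hlt (G ⧸ M) (Subgroup.index_eq_card M).symm hd).trans (Nat.mul_le_mul_left _ ?_)
    exact SolvClass.card_conjClasses_congr_le (QuotientGroup.mk' M) (QuotientGroup.mk'_surjective M)
  by_cases hdone : ∃ M : Subgroup G, M.Normal ∧ M ≠ ⊥ ∧ p ^ 2 ∣ M.index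
  · obtain ⟨M, h1, h2, h3⟩ := hdone
    exact hquot M h1 h2 h3
  push Not at hdone
  -- every minimal normal subgroup is an elementary `p`-group
  have hpow : ∀ M : Subgroup G, M.Normal → M ≠ ⊥ → (∀ K : Subgroup G, K.Normal → K ≤ M → K = ⊥ ∨ K = M) →
      (∀ x ∈ M, ∀ y ∈ M, x * y = y * x) ∧ (∀ x ∈ M, x ^ p = 1) ∧ ∃ j, 1 ≤ j ∧ Nat.card M = p ^ j := by
    intro M hM hM1 hmin
    haveI := hM
    obtain ⟨hc, r, hr, hexp⟩ := CfsgLib.minimal_normal_elementary hM1 inferInstance hmin
    haveI := Fact.mk hr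
    obtain ⟨j, hj⟩ := (IsPGroup.iff_card (p := r) (G := M)).mp
      fun x => ⟨1, Subtype.ext (by rw [pow_one, Subgroup.coe_pow]; exact hexp x x.2)⟩
    have hj1 : 1 ≤ j := by
      rcases Nat.eq_zero_or_pos j with h | h
      · rw [h, pow_zero] at hj; exact absurd (Subgroup.card_eq_one.mp hj) hM1
      · exact h
    by_cases hrp : r = p
    · subst hrp
      exact ⟨fun x hx y hy => congrArg Subtype.val (hc.is_comm.comm ⟨x, hx⟩ ⟨y, hy⟩), hexp, j, hj1, hj⟩
    · exfalso
      refine hdone M hM hM1 (Nat.Coprime.dvd_of_dvd_mul_right ?_ (M.index_mul_card.trans hn ▸ hdvd))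
      rw [hj]
      exact (Nat.coprime_primes hp hr).mpr (Ne.symm hrp) |>.pow 2 j
  haveI : Nontrivial G := Finite.one_lt_card_iff_nontrivial.mp (by
    rw [hn]
    refine lt_of_lt_of_le (Nat.one_lt_pow two_ne_zero hp.one_lt) (Nat.le_of_dvd ?_ hdvd)
    rw [← hn]; exact Nat.card_pos)
  obtain ⟨N, hNn, -, hN1, hNmin⟩ := CfsgLib.exists_minimal_normal (N := (⊤ : Subgroup G)) top_ne_bot
  by_cases hbig : ∃ M : Subgroup G, M.Normal ∧ M ≠ ⊥ ∧ (∀ K : Subgroup G, K.Normal → K ≤ M → K = ⊥ ∨ K = M) ∧
      Nat.card M ≠ p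
  · obtain ⟨M, hM, hM1, hMmin, hMp⟩ := hbig
    haveI := hM
    obtain ⟨hc, hexp, j, hj1, hj⟩ := hpow M hM hM1 hMmin
    refine bound_of_minimal M hc hexp hj ?_ hMmin
    rcases Nat.lt_or_ge j 2 with h | h
    · exact absurd (by rw [hj, show j = 1 by omega, pow_one]) hMp
    · exact h
  push Not at hbig
  haveI := hNn
  have hNp : Nat.card N = p := hbig N hNn hN1 hNmin
  have hcube : ¬ p ^ 3 ∣ n := fun h => hdone N hNn hN1 (by
    rw [← hn, ← N.index_mul_card, hNp, pow_succ p 2] at h
    exact Nat.dvd_of_mul_dvd_mul_right hp.pos h)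
  set W := fittingSubgroup G with hWdef
  haveI : W.Normal := inferInstance
  haveI : Group.IsNilpotent W := CfsgLib.isNilpotent_fittingSubgroup
  have hWp : IsPGroup p W := by
    refine IsPGroup.iff_card.mpr ⟨_, Nat.eq_prime_pow_of_unique_prime_dvd Nat.card_pos.ne' fun {r} hr hrd => ?_⟩
    by_contra hrp
    haveI := Fact.mk hr
    let R : Sylow r W := Classical.arbitrary _
    haveI : (R : Subgroup W).Normal := inferInstance
    haveI : (R : Subgroup W).Characteristic := Sylow.characteristic_of_normal R inferInstance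
    have hR1 : ((R : Subgroup W).map W.subtype) ≠ ⊥ := by
      rw [ne_eq, Subgroup.map_eq_bot_iff_of_injective _ W.subtype_injective]
      exact R.ne_bot_of_dvd_card hrd
    obtain ⟨M, hMn, hMR, hM1, hMmin⟩ :=
      CfsgLib.exists_minimal_normal (N := (R : Subgroup W).map W.subtype) hR1
    have hMp := hbig M hMn hM1 hMmin
    obtain ⟨i, hi⟩ := IsPGroup.iff_card.mp (IsPGroup.map R.isPGroup' W.subtype)
    have := Subgroup.card_dvd_of_le hMR
    rw [hMp, hi] at this
    exact hrp ((Nat.prime_dvd_prime_iff_eq hp hr).mp (hp.dvd_of_dvd_pow this)).symm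
  obtain ⟨j, hj⟩ := IsPGroup.iff_card.mp hWp
  have hNW : N ≤ W := by
    haveI : Group.IsNilpotent N := (IsPGroup.of_card (n := 1) (by rw [hNp, pow_one])).isNilpotent
    exact CfsgLib.le_fittingSubgroup inferInstance
  have hj2 : j ≤ 2 := by
    by_contra h
    exact hcube ((pow_dvd_pow p (by omega : 3 ≤ j)).trans (hj ▸ hn ▸ Subgroup.card_subgroup_dvd_card W))
  have hj1 : 1 ≤ j := by
    rcases Nat.eq_zero_or_pos j with h | h
    · have h1 := Subgroup.card_dvd_of_le hNW
      rw [hNp, hj, h, pow_zero] at h1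
      exact absurd (Nat.dvd_one.mp h1) hp.ne_one
    · exact h
  obtain ⟨P, hWP⟩ := hWp.exists_le_sylow
  have hP : Nat.card P = p ^ 2 := by
    rw [P.card_eq_multiplicity, hn]
    congr 1
    have hn0 : n ≠ 0 := by rw [← hn]; exact Nat.card_pos.ne'
    have h2 := (hp.pow_dvd_iff_le_factorization hn0).mp hdvd
    have h3 := mt (hp.pow_dvd_iff_le_factorization (k := 3) hn0).mpr hcube
    omega
  have hPc : ∀ x ∈ (P : Subgroup G), ∀ y ∈ (P : Subgroup G), x * y = y * x := fun x hx y hy =>
    congrArg Subtype.val ((IsPGroup.commGroupOfCardEqPrimeSq hP).mul_comm ⟨x, hx⟩ ⟨y, hy⟩)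
  have hself : Subgroup.centralizer (W : Set G) ≤ W := CfsgLib.centralizer_fitting_le_of_solvable
  obtain rfl : j = 2 := by
    by_contra h
    have hle : (P : Subgroup G) ≤ W := fun x hx =>
      hself (Subgroup.mem_centralizer_iff.mpr fun y hy => hPc y (hWP hy) x hx)
    have h1 := Subgroup.card_le_of_le hle
    rw [hj, show j = 1 by omega, pow_one, hP, sq] at h1
    exact absurd h1 (not_le.mpr (lt_mul_of_one_lt_left hp.pos hp.one_lt))
  refine bound_of_square W N hNW hNp hj (fun x hx y hy => hPc x (hWP hx) y (hWP hy)) hself fun h => hcube ?_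
  rw [← hn, ← W.index_mul_card, hj, pow_succ' p 2]
  exact Nat.mul_dvd_mul h dvd_rfl

end CfsgLib.ClassesLower
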