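import Cfsg.Agent.Lib.ClassesLower.Isometry

/-!
Numerical facts for the class number bound `p / (3 log₂ p)`.
-/

set_option autoImplicit false

namespace CfsgLib.ClassesLower

/-- Small primes. -/
theorem small_prime_sq {p L : ℕ} (h1 : 2 ^ L ≤ p) (h2 : p < 2 ^ (L + 1)) (hL : 1 ≤ L) (hp : p < 4096) :
    p * p ≤ 36 * (L * L) * (p - 1) := by
  have hL' : L < 12 := by
    by_contra h
    have := Nat.pow_le_pow_right two_pos (not_lt.mp h)
    omega
  have hp36 : p + 2 ≤ 36 * (L * L) := by interval_cases L <;> norm_num at * <;> omega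
  have hp1 : 1 ≤ p := le_trans Nat.one_le_two_pow h1
  obtain ⟨m, rfl⟩ := Nat.exists_eq_add_of_le hp1
  rw [Nat.add_sub_cancel_left]
  rcases Nat.eq_zero_or_pos m with rfl | hm
  · have := Nat.pow_le_pow_right two_pos hL
    omega
  · calc (1 + m) * (1 + m) = 1 + (m + 2) * m := by ring
      _ ≤ m + (m + 2) * m := Nat.add_le_add_right hm _
      _ = (1 + m + 2) * m := by ring
      _ ≤ 36 * (L * L) * m := Nat.mul_le_mul_right _ hp36

theorem sq_step {n : ℕ} (hn : 3 ≤ n) : (n + 1) * (n + 1) ≤ 2 * (n * n) := by nlinarith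

theorem eight_sq_le_nine_pow : ∀ e : ℕ, 8 * (e * e) ≤ 9 * 2 ^ e := by
  intro e
  rcases Nat.lt_or_ge e 3 with h | h
  · interval_cases e <;> norm_num
  · induction e, h using Nat.le_induction with
    | base => norm_num
    | succ e he ih => rw [pow_succ]; have := sq_step he; omega

theorem table_three : ∀ f < 64, 3 ≤ f → f * f * gbd 12 (f * f) ≤ 2304 * 4096 ^ (f - 3) := by
  decide +kernel

/-- The bound on the isometries in large dimension. -/
theorem isometry_bound {a q f : ℕ} (hf : 3 ≤ f) (ha : a ≤ f * f) (hq : ∀ n, a ≤ 2 ^ n → q ≤ gbd n a) :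
    a * q ≤ 2304 * 4096 ^ (f - 3) := by
  have key : ∀ n, f * f ≤ 2 ^ n → a * q ≤ f * f * gbd n (f * f) := fun n h =>
    Nat.mul_le_mul ha ((hq n (ha.trans h)).trans (gbd_mono n ha))
  rcases Nat.lt_or_ge f 64 with hl | hl
  · exact (key 12 (le_trans (Nat.mul_le_mul hl.le hl.le) (by norm_num))).trans (table_three f hl hf)
  · have hff : f * f ≤ 2 ^ (2 * (Nat.log 2 f + 1)) := by
      rw [two_mul, pow_add]
      exact Nat.mul_le_mul (Nat.lt_pow_succ_log_self one_lt_two f).le (Nat.lt_pow_succ_log_self one_lt_two f).le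
    refine ((key _ hff).trans (arith_large hl)).trans ?_
    refine le_trans (Nat.pow_le_pow_right (by norm_num) (by omega : f - 2 ≤ (f - 3) + 1)) ?_
    rw [pow_succ, mul_comm]
    exact Nat.mul_le_mul (by norm_num) (Nat.pow_le_pow_left (by norm_num) _)

variable {p L : ℕ}

/-- One-dimensional over a field with at least `p²` elements. -/
theorem arith_semilinear {e M : ℕ} (h2 : p < 2 ^ (L + 1)) (hL : 12 ≤ L) (hp : 4096 ≤ p) (hM : p * p ≤ M)
    (hMe : 2 ^ e ≤ M) : p * p * (e * e) ≤ 36 * (L * L) * (M - 1) := by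
  have hpp : 4096 * 4096 ≤ p * p := Nat.mul_le_mul hp hp
  rcases Nat.lt_or_ge e (4 * L + 1) with he | he
  · have he' : e * e ≤ 16 * (L * L) := by
      have := Nat.mul_self_le_mul_self (Nat.lt_succ_iff.mp he)
      calc e * e ≤ 4 * L * (4 * L) := this
        _ = _ := by ring
    calc p * p * (e * e) ≤ M * (16 * (L * L)) := Nat.mul_le_mul hM he'
      _ = (L * L) * (16 * M) := by ring
      _ ≤ (L * L) * (36 * (M - 1)) := Nat.mul_le_mul_left _ (by omega)
      _ = _ := by ring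
  · have key : ∀ e, 4 * L + 1 ≤ e → 2 ^ (2 * L + 2) * (e * e) ≤ 18 * (L * L) * 2 ^ e := by
      intro e he
      induction e, he using Nat.le_induction with
      | base =>
        rw [show 4 * L + 1 = (2 * L + 2) + (2 * L - 1) by omega, pow_add (2 : ℕ) (2 * L + 2) (2 * L - 1)]
        have h25 : (2 * L + 2 + (2 * L - 1)) * (2 * L + 2 + (2 * L - 1)) ≤ 18 * (L * L) * 2 ^ (2 * L - 1) := by
          have h2' : 2 ^ 1 ≤ 2 ^ (2 * L - 1) := Nat.pow_le_pow_right two_pos (by omega)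
          rw [show 2 * L + 2 + (2 * L - 1) = 4 * L + 1 by omega]
          nlinarith
        calc _ ≤ 2 ^ (2 * L + 2) * (18 * (L * L) * 2 ^ (2 * L - 1)) := Nat.mul_le_mul_left _ h25
          _ = _ := by ring
      | succ e he ih =>
        rw [pow_succ 2 e]
        calc 2 ^ (2 * L + 2) * ((e + 1) * (e + 1)) ≤ 2 ^ (2 * L + 2) * (2 * (e * e)) :=
              Nat.mul_le_mul_left _ (sq_step (by omega))
          _ ≤ _ := by nlinarith
    have hp2 : p * p ≤ 2 ^ (2 * L + 2) := by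
      rw [show 2 * L + 2 = (L + 1) + (L + 1) by ring, pow_add]; exact Nat.mul_le_mul h2.le h2.le
    calc p * p * (e * e) ≤ 18 * (L * L) * 2 ^ e := (Nat.mul_le_mul_right _ hp2).trans (key e he)
      _ ≤ 18 * (L * L) * M := Nat.mul_le_mul_left _ hMe
      _ = (L * L) * (18 * M) := by ring
      _ ≤ (L * L) * (36 * (M - 1)) := Nat.mul_le_mul_left _ (by omega)
      _ = _ := by ring

/-- Two-dimensional over the field. -/
theorem arith_plane {e M : ℕ} (h2 : p < 2 ^ (L + 1)) (hL : 12 ≤ L) (hM : p + 1 ≤ M) (hMe : 2 ^ e ≤ M) :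
    p * p * (24 * (e * e)) ≤ 36 * (L * L) * (M * M - 1) := by
  have hMM : p * p + 1 ≤ M * M := by nlinarith
  rcases Nat.lt_or_ge e (L + 1) with he | he
  · have he' : e * e ≤ L * L := Nat.mul_self_le_mul_self (Nat.lt_succ_iff.mp he)
    calc p * p * (24 * (e * e)) ≤ (M * M - 1) * (36 * (L * L)) := Nat.mul_le_mul (by omega) (by omega)
      _ = _ := mul_comm _ _
  · have key : ∀ e, L + 1 ≤ e → 2 ^ (2 * L + 2) * (24 * (e * e)) ≤ 35 * (L * L) * (2 ^ e * 2 ^ e) := by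
      intro e he
      induction e, he using Nat.le_induction with
      | base =>
        rw [show 2 * L + 2 = (L + 1) + (L + 1) by ring, pow_add 2 (L + 1) (L + 1), mul_comm (35 * (L * L))]
        exact Nat.mul_le_mul_left _ (by nlinarith)
      | succ e he ih =>
        rw [pow_succ 2 e]
        calc 2 ^ (2 * L + 2) * (24 * ((e + 1) * (e + 1))) ≤ 2 ^ (2 * L + 2) * (24 * (2 * (e * e))) :=
              Nat.mul_le_mul_left _ (Nat.mul_le_mul_left _ (sq_step (by omega)))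
          _ ≤ _ := by nlinarith
    have hp2 : p * p ≤ 2 ^ (2 * L + 2) := by
      rw [show 2 * L + 2 = (L + 1) + (L + 1) by ring, pow_add]; exact Nat.mul_le_mul h2.le h2.le
    have hbig : 36 ≤ M * M := by
      have h64 : 2 ^ (3 + 3) ≤ 2 ^ e * 2 ^ e := by
        rw [← pow_add]; exact Nat.pow_le_pow_right two_pos (by omega)
      have := Nat.mul_le_mul hMe hMe
      norm_num at h64
      omega
    calc p * p * (24 * (e * e)) ≤ 35 * (L * L) * (2 ^ e * 2 ^ e) :=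
          (Nat.mul_le_mul_right _ hp2).trans (key e he)
      _ ≤ 35 * (L * L) * (M * M) := Nat.mul_le_mul_left _ (Nat.mul_le_mul hMe hMe)
      _ = (L * L) * (35 * (M * M)) := by ring
      _ ≤ (L * L) * (36 * (M * M - 1)) := Nat.mul_le_mul_left _ (by omega)
      _ = _ := by ring

/-- Dimension at least three over the field. -/
theorem arith_higher {e f a q M : ℕ} (hp : 4096 ≤ p) (hL : 12 ≤ L) (hf : 3 ≤ f) (hM : p ≤ M) (hMe : 2 ^ e ≤ M)
    (haq : a * q ≤ 2304 * 4096 ^ (f - 3)) : p * p * (e * e * (a * q)) ≤ 36 * (L * L) * (M ^ f - 1) := by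
  obtain ⟨g, rfl⟩ : ∃ g, f = g + 3 := ⟨f - 3, by omega⟩
  rw [Nat.add_sub_cancel] at haq
  have h1 : p ^ g * (p * p) * 2 ^ e ≤ M ^ (g + 3) := by
    calc p ^ g * (p * p) * 2 ^ e ≤ M ^ g * (M * M) * M :=
          Nat.mul_le_mul (Nat.mul_le_mul (Nat.pow_le_pow_left hM g) (Nat.mul_le_mul hM hM)) hMe
      _ = _ := by ring
  have h2 : p * p * (e * e * (a * q)) ≤ 18 * (L * L) * M ^ (g + 3) := by
    have h3 : a * q ≤ 2304 * p ^ g := haq.trans (Nat.mul_le_mul_left _ (Nat.pow_le_pow_left hp g))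
    have h4 := eight_sq_le_nine_pow e
    have hLL : 144 ≤ L * L := Nat.mul_le_mul hL hL
    calc p * p * (e * e * (a * q)) ≤ p * p * (e * e * (2304 * p ^ g)) :=
          Nat.mul_le_mul_left _ (Nat.mul_le_mul_left _ h3)
      _ = 288 * (p ^ g * (p * p)) * (8 * (e * e)) := by ring
      _ ≤ 288 * (p ^ g * (p * p)) * (9 * 2 ^ e) := Nat.mul_le_mul_left _ h4
      _ = 2592 * (p ^ g * (p * p) * 2 ^ e) := by ring
      _ ≤ 18 * (L * L) * M ^ (g + 3) := Nat.mul_le_mul (by omega) h1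
  have hbig : 2 ≤ M ^ (g + 3) := le_trans (by omega : 2 ≤ M) (Nat.le_self_pow (by omega) M)
  refine h2.trans ?_
  calc 18 * (L * L) * M ^ (g + 3) = (L * L) * (18 * M ^ (g + 3)) := by ring
    _ ≤ (L * L) * (36 * (M ^ (g + 3) - 1)) := Nat.mul_le_mul_left _ (by omega)
    _ = _ := by ring

/-- The monomial case. -/
theorem arith_monomial {n N R : ℕ} (h2 : p < 2 ^ (L + 1)) (hp : 4096 ≤ p) (hL : 12 ≤ L) (hn : 3 * L + 1 ≤ n)
    (hN : 1 ≤ N) (hR : p ^ N ≤ R) (hRn : 2 ^ n ≤ R) :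
    p * p * ((n * 3 ^ (N - 1)) * (n * 3 ^ (N - 1))) ≤ 36 * (L * L) * (R - 1) := by
  have key : ∀ n, 3 * L + 1 ≤ n → 2 ^ (6 * L + 6) * n ^ 6 ≤ 162 ^ 3 * L ^ 6 * 4 ^ n := by
    intro n hn
    induction n, hn using Nat.le_induction with
    | base =>
      have e1 : (3 * L + 1) ^ 6 ≤ (4 * L) ^ 6 := Nat.pow_le_pow_left (by omega) 6
      have e2 : (4 : ℕ) ^ (3 * L + 1) = 4 * 2 ^ (6 * L) := by
        rw [pow_succ', show (4 : ℕ) = 2 ^ 2 from rfl, ← pow_mul]; congr 2; ring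
      rw [e2, pow_add]
      calc 2 ^ (6 * L) * 2 ^ 6 * (3 * L + 1) ^ 6 ≤ 2 ^ (6 * L) * 2 ^ 6 * (4 * L) ^ 6 := Nat.mul_le_mul_left _ e1
        _ = 262144 * (L ^ 6 * 2 ^ (6 * L)) := by ring
        _ ≤ 162 ^ 3 * 4 * (L ^ 6 * 2 ^ (6 * L)) := Nat.mul_le_mul_right _ (by norm_num)
        _ = _ := by ring
    | succ n hn ih =>
      have e1 : (n + 1) ^ 6 ≤ 4 * n ^ 6 := by
        have h5 : 5 * ((n + 1) * (n + 1)) ≤ 6 * (n * n) := by nlinarith
        have := Nat.pow_le_pow_left h5 3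
        rw [show (5 * ((n + 1) * (n + 1))) ^ 3 = 125 * (n + 1) ^ 6 by ring,
          show (6 * (n * n)) ^ 3 = 216 * n ^ 6 by ring] at this
        omega
      rw [pow_succ 4 n]
      calc 2 ^ (6 * L + 6) * (n + 1) ^ 6 ≤ 2 ^ (6 * L + 6) * (4 * n ^ 6) := Nat.mul_le_mul_left _ e1
        _ ≤ _ := by nlinarith
  have hp2 : p * p ≤ 2 ^ (2 * L + 2) := by
    rw [show 2 * L + 2 = (L + 1) + (L + 1) by ring, pow_add]; exact Nat.mul_le_mul h2.le h2.le
  have h3 : 2 ^ (2 * L + 2) * (n * n) * 9 ^ N ≤ 162 * (L * L) * R := by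
    refine (Nat.pow_le_pow_iff_left (show (3 : ℕ) ≠ 0 by norm_num)).mp ?_
    calc (2 ^ (2 * L + 2) * (n * n) * 9 ^ N) ^ 3 = 2 ^ (6 * L + 6) * n ^ 6 * (729 : ℕ) ^ N := by
          rw [mul_pow, mul_pow, ← pow_mul, ← pow_mul, mul_comm N 3, pow_mul 9 3 N]
          ring
      _ ≤ 162 ^ 3 * L ^ 6 * 4 ^ n * 4096 ^ N :=
          Nat.mul_le_mul (key n hn) (Nat.pow_le_pow_left (by norm_num) N)
      _ = 162 ^ 3 * L ^ 6 * ((2 ^ n) ^ 2 * 4096 ^ N) := by
          rw [← pow_mul, mul_comm n 2, pow_mul]; ring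
      _ ≤ 162 ^ 3 * L ^ 6 * (R ^ 2 * R) := Nat.mul_le_mul_left _
          (Nat.mul_le_mul (Nat.pow_le_pow_left hRn 2) ((Nat.pow_le_pow_left hp N).trans hR))
      _ = (162 * (L * L) * R) ^ 3 := by ring
  have hR2 : 2 ≤ R := le_trans (le_trans (by norm_num) (Nat.pow_le_pow_right two_pos (by omega : 1 ≤ n))) hRn
  obtain ⟨M, rfl⟩ : ∃ M, N = M + 1 := ⟨N - 1, by omega⟩
  rw [Nat.add_sub_cancel]
  refine Nat.le_of_mul_le_mul_left ?_ (show 0 < 9 by norm_num)
  calc 9 * (p * p * (n * 3 ^ M * (n * 3 ^ M))) = p * p * (n * n) * 9 ^ (M + 1) := by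
        rw [pow_succ, show (9 : ℕ) ^ M = 3 ^ M * 3 ^ M by rw [← mul_pow]; norm_num]; ring
    _ ≤ 162 * (L * L) * R := le_trans (Nat.mul_le_mul_right _ (Nat.mul_le_mul_right _ hp2)) h3
    _ = 9 * (L * L) * (18 * R) := by ring
    _ ≤ 9 * (L * L) * (36 * (R - 1)) := Nat.mul_le_mul_left _ (by omega)
    _ = _ := by ring

end CfsgLib.ClassesLower
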