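import Cfsg.Agent.Lib.ClassesLower.PrimeArith
import Cfsg.Agent.Lib.ClassesLower.Linear
import Cfsg.Agent.Lib.ClassesLower.BlocksMem

/-!
An irreducible solvable linear group with a normal subgroup `A` of prime order `p`: either classes times orbits is
large, or the group is monomial over the field of the `p`-th roots of unity.
-/

set_option autoImplicit false
set_option linter.unusedSectionVars false
set_option linter.style.haveILetI false

namespace CfsgLib.ClassesLower

open Cfsg CfsgLib.SolvClass

universe u v w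

theorem relIndex_ne_zero_of_finite' {G : Type u} [Group G] [Finite G] (H K : Subgroup G) : H.relIndex K ≠ 0 :=
  (Subgroup.index_ne_zero_of_finite : (H.subgroupOf K).index ≠ 0)

/-- Classes times orbits is large. -/
def Prod' (p k o : ℕ) : Prop := p * p ≤ 36 * (Nat.log 2 p * Nat.log 2 p) * (k * o)

/-- Monomial over the field generated by `A`. -/
def Mono (r p n : ℕ) {X : Type u} [Group X] (A : Subgroup X) : Prop :=
  (Subgroup.centralizer (A : Set X)).index ≤ n ∧ ∃ N, 1 ≤ N ∧ p ^ N ≤ r ^ n ∧
    ∃ B : Subgroup X, B ≤ Subgroup.centralizer (A : Set X) ∧ (∀ a ∈ B, ∀ b ∈ B, a * b = b * a) ∧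
      B.relIndex (Subgroup.centralizer (A : Set X)) ≤ 3 ^ (N - 1)

theorem prod_of_count {p k o K R : ℕ} (hK : 0 < K) (h : p * p * K ≤ 36 * (Nat.log 2 p * Nat.log 2 p) * R)
    (h' : R ≤ K * (k * o)) : Prod' p k o := by
  refine Nat.le_of_mul_le_mul_left ?_ hK
  calc K * (p * p) = p * p * K := mul_comm _ _
    _ ≤ 36 * (Nat.log 2 p * Nat.log 2 p) * (K * (k * o)) := h.trans (Nat.mul_le_mul_left _ h')
    _ = _ := by ring

theorem Prod'.mono {p k o k' o' : ℕ} (h : Prod' p k o) (h' : k * o ≤ k' * o') : Prod' p k' o' :=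
  h.trans (Nat.mul_le_mul_left _ h')

section linear

variable {r : ℕ} [Fact r.Prime] {p : ℕ} [Fact p.Prime]

theorem prod_or_mono (hp : 4096 ≤ p) : ∀ (n : ℕ) {X : Type u} [Group X] [Finite X] [Group.IsSolvable X]
    {V : Type u} [AddCommGroup V] [Module (ZMod r) V] [Module.Finite (ZMod r) V] (ρ : X →* (V ≃ₗ[ZMod r] V)),
    Function.Injective ρ → Module.finrank (ZMod r) V = n → 1 ≤ n →
    (∀ U : Submodule (ZMod r) V, (∀ g, ∀ x ∈ U, ρ g x ∈ U) → U = ⊥ ∨ U = ⊤) →
    ∀ (A : Subgroup X), A.Normal → Nat.card A = p →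
    Prod' p (Nat.card (ConjClasses X)) (numOrb ρ) ∨ Mono r p n A := by
  intro n
  induction n using Nat.strong_induction_on with
  | _ n ih =>
  intro X _ _ _ V _ _ _ ρ hρ hdim hn hirr A hAn hAp
  classical
  haveI := hAn
  have hpp : p.Prime := Fact.out
  have hL : 12 ≤ Nat.log 2 p := Nat.le_log_of_pow_le one_lt_two (le_trans (by norm_num) hp)
  have hL2 : p < 2 ^ (Nat.log 2 p + 1) := Nat.lt_pow_succ_log_self one_lt_two p
  have hr2 : 2 ≤ r := (Fact.out : r.Prime).two_le
  haveI : Nontrivial V := Module.nontrivial_of_finrank_pos (R := ZMod r) (by omega)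
  haveI : Finite V := Module.finite_of_finite (ZMod r)
  have hV : Nat.card V = r ^ n := by
    rw [Module.natCard_eq_pow_finrank (K := ZMod r), Nat.card_zmod, hdim]
  have horb := numOrb_mul_ge ρ
  rw [hV] at horb
  haveI : IsCyclic A := isCyclic_of_prime_card hAp
  have hAc : ∀ a ∈ A, ∀ b ∈ A, a * b = b * a := fun a ha b hb => by
    letI := IsCyclic.commGroup (α := A)
    exact congrArg Subtype.val (mul_comm (⟨a, ha⟩ : A) ⟨b, hb⟩)
  obtain ⟨a₀, ha₀⟩ : ∃ a : A, a ≠ 1 := by
    haveI : Nontrivial A := Finite.one_lt_card_iff_nontrivial.mp (by rw [hAp]; exact hpp.one_lt)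
    exact exists_ne 1
  have ha₀p : orderOf (a₀ : X) = p := by
    rw [Subgroup.orderOf_coe]
    refine orderOf_eq_prime ?_ ha₀
    rw [← hAp]; exact pow_card_eq_one'
  obtain ⟨B, hAB, ⟨⟨hBn, hBc⟩, hBmax⟩⟩ := (Set.toFinite
    {B : Subgroup X | B.Normal ∧ ∀ a ∈ B, ∀ b ∈ B, a * b = b * a}).exists_le_maximal (a := A) ⟨hAn, hAc⟩
  haveI := hBn
  set CA := Subgroup.centralizer (A : Set X) with hCA
  have hmemCA : ∀ g, g ∈ CA ↔ ∀ a ∈ A, a * g = g * a := fun g => Subgroup.mem_centralizer_iff
  rcases exists_blocks_mem ρ hBc (coprime_of_irreducible ρ hρ hirr B hBc) with hf | ⟨D, hD2, hDalg, htr⟩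
  · -- a field
    obtain ⟨e, f, C, K, iK, iKf, iM, iMF, ρK, he1, -, hef, hidx, hK, hfK, hρK, hab, -, hcentral, hsplit, hunit,
      hcomm⟩ := field_data ρ hρ B hBc (fun B' hle h1 h2 => le_antisymm (hBmax ⟨h1, h2⟩ hle) hle) hf
    rw [hdim] at hef
    set M := r ^ e with hMdef
    have hMe : 2 ^ e ≤ M := Nat.pow_le_pow_left hr2 e
    have hMn : M ^ f = r ^ n := by rw [hMdef, ← pow_mul, hef]
    have hdvd : ∀ i, 1 ≤ i → (a₀ : X) ^ (r ^ i - 1) = 1 → p + 1 ≤ r ^ i := fun i hi h => by
      have h1 := ha₀p ▸ orderOf_dvd_of_pow_eq_one h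
      have h2 : 1 < r ^ i := Nat.one_lt_pow (by omega) (by omega)
      have := Nat.le_of_dvd (by omega) h1
      omega
    have hM : p + 1 ≤ M := hdvd e he1 (hunit _ (hAB a₀.2))
    have hCle : C ≤ CA := fun c hc => (hmemCA c).mpr fun a ha => (hcentral c hc a (hAB ha)).symm
    have hCcard : Nat.card X ≤ e * Nat.card C := by
      rw [← Subgroup.index_mul_card C]; exact Nat.mul_le_mul_right _ hidx
    have hkC : Nat.card (ConjClasses C) ≤ e * Nat.card (ConjClasses X) :=
      (Cfsg.Agent.S4200.result C).1.trans (Nat.mul_le_mul_right _ hidx)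
    have hfpos : 1 ≤ f := hfK ▸ Module.finrank_pos
    rcases Nat.lt_or_ge f 2 with hf2 | hf2
    · obtain rfl : f = 1 := by omega
      have hCc := hcomm rfl
      rw [card_conjClasses_of_comm hCc] at hkC
      rw [pow_one] at hMn
      by_cases hbig : p * p ≤ M
      · refine Or.inl (prod_of_count (K := e * e) (R := M - 1) (Nat.mul_pos he1 he1)
          (arith_semilinear hL2 hL hp hbig hMe) ?_)
        calc M - 1 ≤ numOrb ρ * Nat.card X := hMn ▸ horb
          _ ≤ numOrb ρ * (e * (e * Nat.card (ConjClasses X))) :=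
            Nat.mul_le_mul_left _ (hCcard.trans (Nat.mul_le_mul_left _ hkC))
          _ = _ := by ring
      · right
        have hCeq : C = CA := by
          refine le_antisymm hCle fun x hx => ?_
          by_contra hxC
          obtain ⟨i, hi1, hie, hi⟩ := hsplit x hxC
          have h1 := hdvd i hi1 (hi _ (hAB a₀.2) ((hmemCA x).mp hx _ a₀.2).symm)
          refine hbig ?_
          calc p * p ≤ r ^ i * r ^ i := Nat.mul_le_mul (by omega) (by omega)
            _ = r ^ (2 * i) := by rw [← pow_add, two_mul]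
            _ ≤ M := Nat.pow_le_pow_right (by omega) hie
        refine ⟨?_, 1, le_rfl, by rw [pow_one, ← hMn]; omega, C, hCle, fun a ha b hb =>
          congrArg Subtype.val (hCc ⟨a, ha⟩ ⟨b, hb⟩), ?_⟩
        · show CA.index ≤ n
          rw [← hCeq]
          rw [mul_one] at hef
          omega
        · rw [← hCA, ← hCeq, Subgroup.relIndex_self]
          exact le_rfl
    · -- dimension at least two
      left
      obtain ⟨T, instT, hfin, ω, σ, hker, hω, hsize, hF, -⟩ := exists_pairing ρK hρK hab
      rw [hfK] at hsize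
      set a := Nat.card T with hadef
      set q := Nat.card (C ⧸ σ.ker) with hqdef
      set z := Nat.card (scal ρK) with hzdef
      have hq : ∀ m, a ≤ 2 ^ m → q ≤ gbd m a := fun m h =>
        card_isometries_le ω (QuotientGroup.kerLift σ) h (QuotientGroup.kerLift_injective σ)
          fun c => QuotientGroup.induction_on c hω
      have hcardC : Nat.card C = z * (a * q) := by
        rw [Subgroup.card_eq_card_quotient_mul_card_subgroup σ.ker,
          show Nat.card σ.ker = z * a by rw [hker]; exact hF, mul_comm, mul_assoc]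
      have hzk : z ≤ e * Nat.card (ConjClasses X) := by
        refine le_trans ?_ hkC
        refine Nat.card_le_card_of_injective (fun s : scal ρK => ConjClasses.mk (s : C)) fun s t h => ?_
        obtain ⟨g, hg⟩ := isConj_iff.mp (ConjClasses.mk_eq_mk_iff_isConj.mp h)
        refine Subtype.ext ?_
        rw [← hg, scal_comm hρK s.2 g, mul_inv_cancel_right]
      have hcount : M ^ f - 1 ≤ e * e * (a * q) * (Nat.card (ConjClasses X) * numOrb ρ) := by
        rw [hMn]
        calc r ^ n - 1 ≤ numOrb ρ * Nat.card X := horb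
          _ ≤ numOrb ρ * (e * (z * (a * q))) := Nat.mul_le_mul_left _ (hcardC ▸ hCcard)
          _ ≤ numOrb ρ * (e * ((e * Nat.card (ConjClasses X)) * (a * q))) :=
            Nat.mul_le_mul_left _ (Nat.mul_le_mul_left _ (Nat.mul_le_mul_right _ hzk))
          _ = _ := by ring
      have hKpos : 0 < e * e * (a * q) :=
        Nat.mul_pos (Nat.mul_pos he1 he1) (Nat.mul_pos Nat.card_pos Nat.card_pos)
      refine prod_of_count hKpos ?_ hcount
      rcases Nat.lt_or_ge f 3 with hf3 | hf3
      · obtain rfl : f = 2 := by omega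
        have haq : a * q ≤ 24 := by
          have hexp := SolvClass.sq_eq_one_of_card_le ω (A := T) (by rw [← hadef]; exact hsize)
          obtain ⟨m, hm⟩ := Pairing.card_sq Nat.prime_two _ ω rfl hexp
          have hm1 : 2 * m ≤ 2 := (Nat.pow_le_pow_iff_right one_lt_two).mp (hm ▸ hsize)
          rcases (by omega : m = 0 ∨ m = 1) with rfl | rfl
          · have hq1 := hq 0 (by rw [hadef, hm])
            have ha1 : a = 1 := by rw [hadef, hm]; rfl
            rw [ha1] at hq1 ⊢
            simp [gbd] at hq1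
            omega
          · have hq6 : q ≤ (2 ^ 2 - 1) * 2 ^ Nat.choose 2 2 :=
              card_le_isometries ω (QuotientGroup.kerLift σ) Nat.prime_two (d := 2) one_le_two hm hexp
                (QuotientGroup.kerLift_injective σ) fun c => QuotientGroup.induction_on c hω
            calc a * q ≤ 4 * 6 := Nat.mul_le_mul (by rw [hadef, hm]; norm_num) (hq6.trans (by decide))
              _ = 24 := by norm_num
        calc p * p * (e * e * (a * q)) ≤ p * p * (24 * (e * e)) :=
              Nat.mul_le_mul_left _ (by rw [mul_comm 24]; exact Nat.mul_le_mul_left _ haq)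
          _ ≤ _ := by rw [sq]; exact arith_plane hL2 hL hM hMe
      · exact arith_higher hp hL hf3 (by omega) hMe (isometry_bound hf3 hsize hq)
  · -- blocks
    replace htr := htr hirr
    obtain ⟨e₀, he₀⟩ : D.E.Nonempty := Finset.card_pos.mp (by omega)
    haveI : Nonempty D.E := ⟨⟨e₀, he₀⟩⟩
    set t := D.E.card with htdef
    set m := Module.finrank (ZMod r) (LinearMap.range e₀) with hmdef
    have hm : ∀ e : D.E, Module.finrank (ZMod r) (LinearMap.range (e : Module.End (ZMod r) V)) = m := fun e => by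
      obtain ⟨g, hg⟩ := htr e e.2 e₀ he₀
      exact D.finrank_eq_of_conj (f := ⟨e₀, he₀⟩) hg
    have htm : t * m = n := by
      rw [← hdim, ← D.sum_finrank, Finset.sum_congr rfl fun e _ => hm e, Finset.sum_const, Finset.card_univ,
        Fintype.card_coe, smul_eq_mul]
    have hm0 : 1 ≤ m := by
      rcases Nat.eq_zero_or_pos m with h | h
      · rw [h, mul_zero] at htm; omega
      · exact h
    have hmn : m < n := by rw [← htm]; exact lt_mul_of_one_lt_left (by omega) hD2
    have hAS : ∀ (e : D.E), ∀ a ∈ A, a ∈ D.stab e := by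
      intro e a ha
      show cjEnd ρ a e = e
      rw [cjEnd, alg_comm ρ hBc (mem_alg ρ (hAB ha)) (hDalg e e.2), mul_assoc, SolvClass.coe_mul_coe,
        mul_inv_cancel, map_one]
      exact mul_one _
    have hfaith : ∀ (e : D.E) (a : X) (ha : a ∈ A), D.res e ⟨a, hAS e a ha⟩ = 1 → a = 1 := by
      intro e a ha h
      by_contra hne
      have hgen : ∀ b ∈ A, ∃ i : ℤ, a ^ i = b := by
        intro b hb
        have := mem_zpowers_of_prime_card (G := A) hAp (g' := ⟨b, hb⟩) (g := ⟨a, ha⟩)
          fun e' => hne (congrArg Subtype.val e')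
        obtain ⟨i, hi⟩ := this
        exact ⟨i, congrArg Subtype.val hi⟩
      have hall : ∀ b ∈ A, ∀ v : V, ρ b ((e : Module.End (ZMod r) V) v) = (e : Module.End (ZMod r) V) v := by
        intro b hb v
        obtain ⟨i, rfl⟩ := hgen b hb
        have hi : D.res e (⟨a, hAS e a ha⟩ ^ i) = 1 := by rw [map_zpow, h, one_zpow]
        have := congrArg Subtype.val (DFunLike.congr_fun hi ⟨(e : Module.End (ZMod r) V) v, v, rfl⟩)
        rw [Blocks.res_apply, Subgroup.coe_zpow] at this
        exact this
      refine hne (hρ (LinearEquiv.ext fun v => ?_))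
      rw [map_one, LinearEquiv.coe_one, id_eq]
      conv_lhs => rw [← D.sum_apply v]
      conv_rhs => rw [← D.sum_apply v]
      rw [map_sum]
      refine Finset.sum_congr rfl fun f _ => ?_
      obtain ⟨g, hg⟩ := htr e e.2 f f.2
      rw [← hg, cjEnd_apply]
      have h1 := hall (g⁻¹ * a * g) (by simpa using hAn.conj_mem a ha g⁻¹) (ρ g⁻¹ v)
      calc ρ a (ρ g ((e : Module.End (ZMod r) V) (ρ g⁻¹ v)))
          = ρ g (ρ (g⁻¹ * a * g) ((e : Module.End (ZMod r) V) (ρ g⁻¹ v))) := by
            simp [← LinearEquiv.mul_apply, ← map_mul, mul_assoc]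
        _ = _ := by rw [h1]
    let mkE : ∀ e : D.E, D.stab e →* D.stab e ⧸ (D.res e).ker := fun e => QuotientGroup.mk' _
    let A₁ : ∀ e : D.E, Subgroup (D.stab e ⧸ (D.res e).ker) := fun e => (A.subgroupOf (D.stab e)).map (mkE e)
    have hinjA : ∀ (e : D.E) (a b : D.stab e), (a : X) ∈ A → (b : X) ∈ A → mkE e a = mkE e b → a = b := by
      intro e a b ha hb h
      have h1 : D.res e (a⁻¹ * b) = 1 := MonoidHom.mem_ker.mp (QuotientGroup.eq.mp h)
      exact inv_mul_eq_one.mp (Subtype.ext (hfaith e _ (mul_mem (inv_mem ha) hb) h1))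
    have hA₁n : ∀ e, (A₁ e).Normal := fun e =>
      Subgroup.Normal.map inferInstance _ (QuotientGroup.mk'_surjective _)
    have hA₁p : ∀ e, Nat.card (A₁ e) = p := fun e => by
      rw [← hAp]
      refine (Nat.card_eq_of_bijective (fun a : A => (⟨mkE e ⟨a, hAS e a a.2⟩, ⟨a, hAS e a a.2⟩, a.2, rfl⟩ : A₁ e))
        ⟨fun a b h => ?_, ?_⟩).symm
      · have h' := hinjA e _ _ a.2 b.2 (congrArg Subtype.val h)
        exact Subtype.ext (congrArg Subtype.val h' :)
      · rintro ⟨_, b, hb, rfl⟩
        exact ⟨⟨b, hb⟩, rfl⟩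
    have hIH : ∀ e : D.E, Prod' p (Nat.card (ConjClasses (D.stab e ⧸ (D.res e).ker)))
        (numOrb (QuotientGroup.kerLift (D.res e))) ∨ Mono r p m (A₁ e) := fun e =>
      ih m hmn (QuotientGroup.kerLift (D.res e)) (QuotientGroup.kerLift_injective _) (hm e) hm0
        (fun U hU => D.stab_irreducible hirr e U fun g x hx => hU (QuotientGroup.mk g) x hx) (A₁ e) (hA₁n e)
        (hA₁p e)
    by_cases hprod : ∃ e : D.E, Prod' p (Nat.card (ConjClasses (D.stab e ⧸ (D.res e).ker)))
        (numOrb (QuotientGroup.kerLift (D.res e)))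
    · obtain ⟨e, he⟩ := hprod
      refine Or.inl (he.mono ?_)
      have hres : numOrb (QuotientGroup.kerLift (D.res e)) = numOrb (D.res e) := by
        rw [← numOrb_comp (QuotientGroup.mk' (D.res e).ker) (QuotientGroup.mk'_surjective _)]
        rfl
      rw [hres]
      have hmc := multichoose_le_orbits D e fun f hf => htr e e.2 f hf
      rw [Nat.multichoose_eq] at hmc
      have hk : Nat.card (ConjClasses (D.stab e ⧸ (D.res e).ker)) ≤ t * Nat.card (ConjClasses X) :=
        (SolvClass.card_conjClasses_congr_le (mkE e) (QuotientGroup.mk'_surjective _)).trans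
          ((Cfsg.Agent.S4200.result (D.stab e)).1.trans (Nat.mul_le_mul_right _ (index_stab_le D e)))
      have h1 := one_add_mul_le_choose (numOrb (D.res e)) t
      rw [show numOrb (D.res e) + 1 + D.E.card - 1 = numOrb (D.res e) + t by omega, ← htdef] at hmc
      refine Nat.le_of_mul_le_mul_left ?_ (show 0 < t by omega)
      calc t * (Nat.card (ConjClasses (D.stab e ⧸ (D.res e).ker)) * numOrb (D.res e))
          = Nat.card (ConjClasses (D.stab e ⧸ (D.res e).ker)) * (numOrb (D.res e) * t) := by ring
        _ ≤ t * Nat.card (ConjClasses X) * numOrb ρ := Nat.mul_le_mul hk (by omega)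
        _ = _ := mul_assoc _ _ _
    · push Not at hprod
      have hmono : ∀ e, Mono r p m (A₁ e) := fun e => (hIH e).resolve_left (hprod e)
      choose hidx N hN hNp B₁ hB₁le hB₁c hB₁rel using hmono
      right
      let C₁ : ∀ e : D.E, Subgroup (D.stab e ⧸ (D.res e).ker) := fun e => Subgroup.centralizer (A₁ e : Set _)
      let CS : ∀ e : D.E, Subgroup X := fun e => ((C₁ e).comap (mkE e)).map (D.stab e).subtype
      let pre : ∀ e : D.E, Subgroup X := fun e => ((B₁ e).comap (mkE e)).map (D.stab e).subtype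
      have hCS : ∀ e, CS e = CA ⊓ D.stab e := by
        intro e
        ext g
        constructor
        · rintro ⟨s, hs, rfl⟩
          refine ⟨(hmemCA _).mpr fun a ha => ?_, s.2⟩
          have h1 := Subgroup.mem_centralizer_iff.mp hs (mkE e ⟨a, hAS e a ha⟩) ⟨⟨a, hAS e a ha⟩, ha, rfl⟩
          have h3 : ((⟨a, hAS e a ha⟩ : D.stab e) : X)⁻¹ * ((s : X) * a * (s : X)⁻¹) = 1 := by
            refine hfaith e _ (mul_mem (inv_mem ha) (hAn.conj_mem a ha s)) ?_
            have h2 : mkE e (⟨a, hAS e a ha⟩⁻¹ * (s * ⟨a, hAS e a ha⟩ * s⁻¹)) = 1 := by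
              rw [map_mul, map_mul, map_mul, map_inv, map_inv, ← h1, mul_inv_cancel_right, inv_mul_cancel]
            exact MonoidHom.mem_ker.mp ((QuotientGroup.eq_one_iff _).mp h2)
          have h4 := inv_mul_eq_one.mp h3
          show a * (s : X) = (s : X) * a
          conv_lhs => rw [show a = (s : X) * a * (s : X)⁻¹ from h4]
          rw [inv_mul_cancel_right]
        · rintro ⟨hg, hgS⟩
          refine ⟨⟨g, hgS⟩, Subgroup.mem_centralizer_iff.mpr ?_, rfl⟩
          rintro _ ⟨a, ha, rfl⟩
          rw [← map_mul, ← map_mul]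
          exact congrArg (mkE e) (Subtype.ext ((hmemCA g).mp hg a ha))
      refine ⟨?_, ∑ e, N e, ?_, ?_, ?_⟩
      · -- index
        let e : D.E := ⟨e₀, he₀⟩
        have h1 : (CS e).relIndex (D.stab e) = (C₁ e).index := by
          rw [← Subgroup.index_comap_of_surjective (C₁ e) (f := mkE e) (QuotientGroup.mk'_surjective _)]
          show (((C₁ e).comap (mkE e)).map (D.stab e).subtype).relIndex (D.stab e) = _
          rw [Subgroup.relIndex, Subgroup.subgroupOf,
            Subgroup.comap_map_eq_self_of_injective (D.stab e).subtype_injective]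
        calc CA.index ≤ (CS e).index :=
              Nat.le_of_dvd (Nat.pos_of_ne_zero Subgroup.index_ne_zero_of_finite)
                (Subgroup.index_dvd_of_le (by rw [hCS]; exact inf_le_left))
          _ = (CS e).relIndex (D.stab e) * (D.stab e).index :=
              (Subgroup.relIndex_mul_index (by rw [hCS]; exact inf_le_right)).symm
          _ ≤ m * t := Nat.mul_le_mul (h1 ▸ hidx e) (index_stab_le D e)
          _ = n := by rw [mul_comm, htm]
      · calc 1 ≤ N ⟨e₀, he₀⟩ := hN _
          _ ≤ _ := Finset.single_le_sum (fun e _ => Nat.zero_le (N e)) (Finset.mem_univ _)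
      · rw [← Finset.prod_pow_eq_pow_sum]
        refine (Finset.prod_le_prod' fun e _ => hNp e).trans (le_of_eq ?_)
        rw [Finset.prod_const, Finset.card_univ, Fintype.card_coe, ← pow_mul, mul_comm, htm]
      · let K₀ : Subgroup X := D.permHom.ker ⊓ CA
        refine ⟨K₀ ⊓ ⨅ e, pre e, le_trans inf_le_left inf_le_right, ?_, ?_⟩
        · intro x hx y hy
          have hxk : x ∈ D.permHom.ker := hx.1.1
          have hyk : y ∈ D.permHom.ker := hy.1.1
          refine congrArg Subtype.val
            (show (⟨x, hxk⟩ : D.permHom.ker) * ⟨y, hyk⟩ = ⟨y, hyk⟩ * ⟨x, hxk⟩ from ?_)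
          refine inv_mul_eq_one.mp (D.eq_one_of_res hρ _ fun e => ?_)
          let f := (D.res e).comp (Subgroup.inclusion (D.ker_le_stab e))
          show f (((⟨x, hxk⟩ : D.permHom.ker) * ⟨y, hyk⟩)⁻¹ * (⟨y, hyk⟩ * ⟨x, hxk⟩)) = 1
          rw [map_mul, map_inv, inv_mul_eq_one, map_mul, map_mul]
          obtain ⟨sx, hsx, hsx'⟩ := Subgroup.mem_iInf.mp hx.2 e
          obtain ⟨sy, hsy, hsy'⟩ := Subgroup.mem_iInf.mp hy.2 e
          have ex : (⟨x, D.ker_le_stab e hxk⟩ : D.stab e) = sx := Subtype.ext hsx'.symm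
          have ey : (⟨y, D.ker_le_stab e hyk⟩ : D.stab e) = sy := Subtype.ext hsy'.symm
          show D.res e ⟨x, _⟩ * D.res e ⟨y, _⟩ = D.res e ⟨y, _⟩ * D.res e ⟨x, _⟩
          rw [ex, ey]
          have h1 := congrArg (QuotientGroup.kerLift (D.res e)) (hB₁c e _ hsx _ hsy)
          rwa [map_mul, map_mul] at h1
        · have hT : D.permHom.ker.relIndex CA ≤ 3 ^ (t - 1) := by
            refine (Nat.le_of_dvd (Nat.pos_of_ne_zero Subgroup.index_ne_zero_of_finite)
              (Subgroup.relIndex_dvd_index_of_normal _ _)).trans ?_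
            rw [Subgroup.index_ker]
            haveI : Group.IsSolvable D.permHom.range :=
              Group.isSolvable_of_surjective (MonoidHom.rangeRestrict_surjective _)
            exact solvable_perm_card _ D.permHom.range (by rw [Nat.card_eq_fintype_card, Fintype.card_coe])
          have hpre : ∀ e, (pre e).relIndex K₀ ≤ 3 ^ (N e - 1) := by
            intro e
            have hK₀ : K₀ ≤ CS e := by
              rw [hCS]; exact le_inf inf_le_right (inf_le_left.trans (D.ker_le_stab e))
            refine (Subgroup.relIndex_le_of_le_right hK₀ (relIndex_ne_zero_of_finite' _ _)).trans ?_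
            show (((B₁ e).comap (mkE e)).map (D.stab e).subtype).relIndex
              (((C₁ e).comap (mkE e)).map (D.stab e).subtype) ≤ _
            rw [Subgroup.relIndex_map_map_of_injective _ _ (D.stab e).subtype_injective, Subgroup.relIndex_comap,
              Subgroup.map_comap_eq_self_of_surjective (QuotientGroup.mk'_surjective _)]
            exact hB₁rel e
          calc (K₀ ⊓ ⨅ e, pre e).relIndex CA = (K₀ ⊓ ⨅ e, pre e).relIndex K₀ * K₀.relIndex CA :=
                (Subgroup.relIndex_mul_relIndex _ _ _ inf_le_left inf_le_right).symm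
            _ ≤ (∏ e, 3 ^ (N e - 1)) * 3 ^ (t - 1) := by
                refine Nat.mul_le_mul ?_ ?_
                · rw [Subgroup.inf_relIndex_left]
                  exact (Subgroup.relIndex_iInf_le _).trans (Finset.prod_le_prod' fun e _ => hpre e)
                · rw [show K₀ = D.permHom.ker ⊓ CA from rfl, Subgroup.inf_relIndex_right]
                  exact hT
            _ = 3 ^ (∑ e, N e - 1) := by
                rw [Finset.prod_pow_eq_pow_sum, ← pow_add]
                congr 1
                have : (∑ e : D.E, (N e - 1)) + t = ∑ e, N e := by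
                  rw [htdef, ← Fintype.card_coe D.E, ← Finset.card_univ, Finset.card_eq_sum_ones,
                    ← Finset.sum_add_distrib]
                  exact Finset.sum_congr rfl fun e _ => Nat.sub_add_cancel (hN e)
                omega

/-- The case where few automorphisms of `A` are excluded. -/
theorem prod_of_index (hp : 4096 ≤ p) {X : Type u} [Group X] [Finite X] [Group.IsSolvable X]
    {V : Type u} [AddCommGroup V] [Module (ZMod r) V] [Module.Finite (ZMod r) V] (ρ : X →* (V ≃ₗ[ZMod r] V))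
    (hρ : Function.Injective ρ) (hn : 1 ≤ Module.finrank (ZMod r) V)
    (hirr : ∀ U : Submodule (ZMod r) V, (∀ g, ∀ x ∈ U, ρ g x ∈ U) → U = ⊥ ∨ U = ⊤) (A : Subgroup X) (hAn : A.Normal)
    (hAp : Nat.card A = p) (hd : 3 * Nat.log 2 p < (Subgroup.centralizer (A : Set X)).index) :
    Prod' p (Nat.card (ConjClasses X)) (numOrb ρ) := by
  rcases prod_or_mono hp _ ρ hρ rfl hn hirr A hAn hAp with h | ⟨hidx, N, hN, hNp, B, hBle, hBc, hrel⟩
  · exact h
  haveI : Finite V := Module.finite_of_finite (ZMod r)
  have horb := numOrb_mul_ge ρ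
  rw [Module.natCard_eq_pow_finrank (K := ZMod r), Nat.card_zmod] at horb
  set n := Module.finrank (ZMod r) V
  have hL : 12 ≤ Nat.log 2 p := Nat.le_log_of_pow_le one_lt_two (le_trans (by norm_num) hp)
  set ι := n * 3 ^ (N - 1) with hι
  have hBidx : B.index ≤ ι := by
    rw [← Subgroup.relIndex_mul_index hBle, hι, mul_comm n]
    exact Nat.mul_le_mul hrel hidx
  have hkB := (Cfsg.Agent.S4200.result B).1
  rw [card_conjClasses_of_comm fun a b : B => Subtype.ext (hBc a a.2 b b.2)] at hkB
  refine prod_of_count (K := ι * ι) (R := r ^ n - 1) ?_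
    (arith_monomial (Nat.lt_pow_succ_log_self one_lt_two p) hp hL (by omega) hN hNp
      (Nat.pow_le_pow_left (Fact.out : r.Prime).two_le n)) ?_
  · have : 0 < n := hn
    positivity
  · refine horb.trans ?_
    rw [← Subgroup.index_mul_card B]
    calc numOrb ρ * (B.index * Nat.card B) ≤ numOrb ρ * (ι * (ι * Nat.card (ConjClasses X))) :=
          Nat.mul_le_mul_left _ (Nat.mul_le_mul hBidx (hkB.trans (Nat.mul_le_mul_right _ hBidx)))
      _ = _ := by ring

end linear

end CfsgLib.ClassesLower
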