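import Cfsg.Agent.Lib.ClassesLower.Main
import Cfsg.Agent.Lib.ClassesLower.PrimeLinear

/-!
A solvable group with `p` dividing the index of its Fitting subgroup has at least `p / (3 log₂ p)` classes.
-/

set_option autoImplicit false
set_option linter.unusedSectionVars false
set_option linter.style.haveILetI false

namespace CfsgLib.ClassesLower

open Cfsg CfsgLib.SolvClass
open scoped commutatorElement

universe u

/-- A linear group with a normal subgroup of order `p`. -/
theorem bound_of_normal_prime {r p : ℕ} [Fact r.Prime] [Fact p.Prime] {X : Type u} [Group X] [Finite X]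
    [Group.IsSolvable X] {V : Type u} [AddCommGroup V] [Module (ZMod r) V] [Module.Finite (ZMod r) V]
    (ρ : X →* (V ≃ₗ[ZMod r] V)) (hρ : Function.Injective ρ) (hn : 1 ≤ Module.finrank (ZMod r) V)
    (hirr : ∀ U : Submodule (ZMod r) V, (∀ g, ∀ x ∈ U, ρ g x ∈ U) → U = ⊥ ∨ U = ⊤) (A : Subgroup X) [A.Normal]
    (hAp : Nat.card A = p) : p ≤ 3 * Nat.log 2 p * (Nat.card (ConjClasses X) + numOrb ρ) := by
  classical
  haveI : Nontrivial V := Module.nontrivial_of_finrank_pos (R := ZMod r) (by omega)
  haveI : Finite V := Module.finite_of_finite (ZMod r)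
  have hp : p.Prime := Fact.out
  have ho := one_le_numOrb ρ
  have hL : 1 ≤ Nat.log 2 p := Nat.le_log_of_pow_le one_lt_two (by simpa using hp.two_le)
  set L := Nat.log 2 p
  set CA := Subgroup.centralizer (A : Set X) with hCA
  set d := CA.index with hd
  set j := (classesIn A).ncard
  have hj : p - 1 ≤ j * d :=
    hAp ▸ classesIn_mul_ge A CA (fun c hc x hx => (Subgroup.mem_centralizer_iff.mp hc x hx).symm)
  have hk : Nat.card (ConjClasses (X ⧸ A)) + j ≤ Nat.card (ConjClasses X) := card_quotient_add_classesIn A
  have hk1 : 1 ≤ Nat.card (ConjClasses (X ⧸ A)) := one_le_card_conjClasses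
  set k := Nat.card (ConjClasses X) with hkdef
  by_cases hd3 : d ≤ 3 * L
  · calc p ≤ j * d + 3 * L := by omega
      _ ≤ j * (3 * L) + 3 * L := Nat.add_le_add_right (Nat.mul_le_mul_left j hd3) _
      _ = 3 * L * (j + 1) := by ring
      _ ≤ _ := Nat.mul_le_mul_left _ (by omega)
  push Not at hd3
  have hsq : p * p ≤ 9 * (L * L) * ((k + numOrb ρ) * (k + numOrb ρ)) := by
    by_cases hp4 : 4096 ≤ p
    · have h : p * p ≤ 36 * (L * L) * (k * numOrb ρ) := prod_of_index hp4 ρ hρ hn hirr A inferInstance hAp hd3
      refine h.trans ?_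
      calc 36 * (L * L) * (k * numOrb ρ) = 9 * (L * L) * (4 * (k * numOrb ρ)) := by ring
        _ ≤ _ := Nat.mul_le_mul_left _ (by
          have := four_mul_le_sq_add k (numOrb ρ)
          nlinarith)
    · -- the quotient by the centraliser is abelian
      have hle : A ≤ CA := by
        intro a ha
        haveI : IsCyclic A := isCyclic_of_prime_card hAp
        letI := IsCyclic.commGroup (α := A)
        exact Subgroup.mem_centralizer_iff.mpr fun b hb =>
          congrArg Subtype.val (mul_comm (⟨b, hb⟩ : A) ⟨a, ha⟩)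
      have hker : (MulAut.conjNormal : X →* MulAut A).ker = CA := by
        ext g
        constructor
        · intro hg
          refine Subgroup.mem_centralizer_iff.mpr fun a ha => ?_
          have h1 := congrArg (fun s : MulAut A => ((s ⟨a, ha⟩ : A) : X)) (MonoidHom.mem_ker.mp hg)
          exact (mul_inv_eq_iff_eq_mul.mp h1).symm
        · intro hg
          refine MonoidHom.mem_ker.mpr (MulEquiv.ext fun a => Subtype.ext ?_)
          show g * (a : X) * g⁻¹ = a
          rw [← Subgroup.mem_centralizer_iff.mp hg a a.2, mul_inv_cancel_right]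
      haveI : CA.Normal := hker ▸ inferInstance
      have hcomm : ∀ x y : X ⧸ CA, x * y = y * x := by
        intro x y
        induction x using QuotientGroup.induction_on with | _ a => ?_
        induction y using QuotientGroup.induction_on with | _ b => ?_
        rw [← QuotientGroup.mk_mul, ← QuotientGroup.mk_mul, QuotientGroup.eq]
        rw [← hker, MonoidHom.mem_ker]
        simp only [map_mul, map_inv]
        rw [inv_mul_eq_one]
        exact mulAut_comm hAp _ _
      have hdk : d ≤ Nat.card (ConjClasses (X ⧸ A)) := by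
        rw [hd, Subgroup.index_eq_card, ← card_conjClasses_of_comm hcomm]
        exact SolvClass.card_conjClasses_congr_le (QuotientGroup.map A CA (MonoidHom.id X) hle)
          fun x => QuotientGroup.induction_on x fun g => ⟨(g : X ⧸ A), rfl⟩
      have h1 := small_prime_sq (p := p) (L := L) (Nat.pow_log_le_self 2 hp.ne_zero)
        (Nat.lt_pow_succ_log_self one_lt_two p) hL (by omega)
      refine h1.trans ?_
      calc 36 * (L * L) * (p - 1) ≤ 36 * (L * L) * (j * d) := Nat.mul_le_mul_left _ hj
        _ = 9 * (L * L) * (4 * (j * d)) := by ring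
        _ ≤ _ := Nat.mul_le_mul_left _ (by
          have := four_mul_le_sq_add j d
          have hle' : j + d ≤ k + numOrb ρ := by omega
          nlinarith [Nat.mul_self_le_mul_self hle'])
  refine Nat.mul_self_le_mul_self_iff.mp (hsq.trans (le_of_eq ?_))
  ring

/-- The main bound. -/
theorem classes_ge_log {p : ℕ} [Fact p.Prime] : ∀ (n : ℕ) (G : Type u) [Group G] [Finite G] [Group.IsSolvable G],
    Nat.card G = n → p ∣ (fittingSubgroup G).index → p ≤ 3 * Nat.log 2 p * Nat.card (ConjClasses G) := by
  intro n
  induction n using Nat.strong_induction_on with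
  | _ n ih =>
  intro G _ _ _ hn hdvd
  classical
  have hp : p.Prime := Fact.out
  have hL : 1 ≤ Nat.log 2 p := Nat.le_log_of_pow_le one_lt_two (by simpa using hp.two_le)
  by_cases hsq : p ^ 2 ∣ n
  · have h := classes_ge (p := p) n G hn hsq
    calc p ≤ 3 * Nat.card (ConjClasses G) := by omega
      _ ≤ _ := Nat.mul_le_mul_right _ (by omega)
  set F := fittingSubgroup G with hFdef
  haveI : Group.IsNilpotent F := CfsgLib.isNilpotent_fittingSubgroup
  have hpF : ¬ p ∣ Nat.card F := fun h => hsq (by
    rw [← hn, ← F.index_mul_card, sq]; exact Nat.mul_dvd_mul hdvd h)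
  haveI : Nontrivial G := Finite.one_lt_card_iff_nontrivial.mp
    (lt_of_lt_of_le hp.one_lt (Nat.le_of_dvd Nat.card_pos (hdvd.trans F.index_dvd_card)))
  obtain ⟨N, hNn, -, hN1, hNmin⟩ := CfsgLib.exists_minimal_normal (N := (⊤ : Subgroup G)) top_ne_bot
  haveI := hNn
  have hlt : Nat.card (G ⧸ N) < n := by
    rw [← hn, Subgroup.card_eq_card_quotient_mul_card_subgroup N]
    exact lt_mul_of_one_lt_right Nat.card_pos ((Subgroup.one_lt_card_iff_ne_bot N).mpr hN1)
  by_cases hq : p ∣ (fittingSubgroup (G ⧸ N)).index
  · exact (ih _ hlt (G ⧸ N) rfl hq).trans (Nat.mul_le_mul_left _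
      (SolvClass.card_conjClasses_congr_le (QuotientGroup.mk' N) (QuotientGroup.mk'_surjective N)))
  obtain ⟨hNc, r, hr, hNexp⟩ := CfsgLib.minimal_normal_elementary hN1 inferInstance hNmin
  haveI := Fact.mk hr
  have hNc' : ∀ x ∈ N, ∀ y ∈ N, x * y = y * x := fun x hx y hy =>
    congrArg Subtype.val (hNc.is_comm.comm ⟨x, hx⟩ ⟨y, hy⟩)
  have hNF : N ≤ F := by
    letI : CommGroup N := { (inferInstance : Group N) with mul_comm := fun a b => hNc.is_comm.comm a b }
    exact CfsgLib.le_fittingSubgroup (CommGroup.isNilpotent (G := N))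
  have hpN : ¬ p ∣ Nat.card N := fun h => hpF (h.trans (Subgroup.card_dvd_of_le hNF))
  obtain ⟨j, hj⟩ := (IsPGroup.iff_card (p := r) (G := N)).mp
    fun x => ⟨1, Subtype.ext (by rw [pow_one, Subgroup.coe_pow]; exact hNexp x x.2)⟩
  have hj1 : 1 ≤ j := by
    rcases Nat.eq_zero_or_pos j with h | h
    · rw [h, pow_zero] at hj; exact absurd (Subgroup.card_eq_one.mp hj) hN1
    · exact h
  -- a normal subgroup of order `p` in the quotient
  set W := fittingSubgroup (G ⧸ N) with hWdef
  haveI : W.Normal := inferInstance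
  haveI : Group.IsNilpotent W := CfsgLib.isNilpotent_fittingSubgroup
  have hpQ : p ∣ Nat.card (G ⧸ N) := by
    rcases hp.dvd_mul.mp (Subgroup.card_eq_card_quotient_mul_card_subgroup N ▸ hdvd.trans F.index_dvd_card) with h | h
    · exact h
    · exact absurd h hpN
  have hpW : p ∣ Nat.card W :=
    (hp.dvd_mul.mp (W.index_mul_card.symm ▸ hpQ)).resolve_left hq
  let P : Sylow p W := Classical.arbitrary _
  haveI : (P : Subgroup W).Characteristic := Sylow.characteristic_of_normal P inferInstance
  let R : Subgroup (G ⧸ N) := (P : Subgroup W).map W.subtype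
  haveI : R.Normal := inferInstance
  have hRcard : Nat.card R = p := by
    have e : Nat.card R = Nat.card (P : Subgroup W) :=
      (Nat.card_congr ((P : Subgroup W).equivMapOfInjective W.subtype W.subtype_injective).toEquiv).symm
    rw [e, P.card_eq_multiplicity]
    have h1 : 1 ≤ (Nat.card W).factorization p :=
      (hp.pow_dvd_iff_le_factorization Nat.card_pos.ne').mp (by rwa [pow_one])
    have h2 : ¬ 2 ≤ (Nat.card W).factorization p := fun h => hsq (by
      have := (hp.pow_dvd_iff_le_factorization Nat.card_pos.ne').mpr h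
      rw [← hn]
      exact this.trans ((Subgroup.card_subgroup_dvd_card W).trans
        (Subgroup.card_quotient_dvd_card N)))
    rw [show (Nat.card W).factorization p = 1 by omega, pow_one]
  obtain ⟨V, iV, iM, iF, ρ, hdim, hirr, hmem, hle⟩ := minimal_action (p := r) N hNc' hNexp hj hNmin
  let M : Subgroup G := R.comap (QuotientGroup.mk' N)
  haveI : M.Normal := inferInstance
  let A : Subgroup (G ⧸ ρ.ker) := M.map (QuotientGroup.mk' ρ.ker)
  haveI : A.Normal := Subgroup.Normal.map inferInstance _ (QuotientGroup.mk'_surjective _)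
  have hNker : N ≤ ρ.ker := fun x hx => (hmem x).mpr fun y hy => hNc' x hx y hy
  have hA : Nat.card A = p := by
    have e : A = R.map (QuotientGroup.map N ρ.ker (MonoidHom.id G) hNker) := by
      have hR : M.map (QuotientGroup.mk' N) = R :=
        Subgroup.map_comap_eq_self_of_surjective (QuotientGroup.mk'_surjective N) R
      rw [← hR, Subgroup.map_map]
      rfl
    have hd : Nat.card A ∣ p := hRcard ▸ e ▸ Subgroup.card_map_dvd R _
    rcases (Nat.dvd_prime hp).mp hd with h | h
    · exfalso
      have hMle : M ≤ ρ.ker := fun x hx => (QuotientGroup.eq_one_iff x).mp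
        ((Subgroup.mem_bot).mp (Subgroup.card_eq_one.mp h ▸ ⟨x, hx, rfl⟩ : ((x : G) : G ⧸ ρ.ker) ∈ (⊥ : Subgroup _)))
      let π : M →* R := ((QuotientGroup.mk' N).comp M.subtype).codRestrict R fun x => x.2
      haveI : IsCyclic R := isCyclic_of_prime_card hRcard
      have hπ : π.ker ≤ Subgroup.center M := by
        intro x hx
        have hxN : (x : G) ∈ N := (QuotientGroup.eq_one_iff _).mp (congrArg Subtype.val (MonoidHom.mem_ker.mp hx))
        exact Subgroup.mem_center_iff.mpr fun y => Subtype.ext ((hmem y).mp (hMle y.2) x hxN)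
      have hMc : ∀ a b : M, a * b = b * a := (π.isMulCommutative_of_isCyclic_of_ker_le_center hπ).is_comm.comm
      letI : CommGroup M := { (inferInstance : Group M) with mul_comm := hMc }
      have hMF : M ≤ F := CfsgLib.le_fittingSubgroup (CommGroup.isNilpotent (G := M))
      refine hpF (dvd_trans ?_ (Subgroup.card_dvd_of_le hMF))
      have hs : Function.Surjective π := fun y => by
        obtain ⟨g, hg⟩ := QuotientGroup.mk'_surjective N (y : G ⧸ N)
        exact ⟨⟨g, show QuotientGroup.mk' N g ∈ R from hg.symm ▸ y.2⟩, Subtype.ext hg⟩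
      exact hRcard ▸ Subgroup.card_dvd_of_surjective π hs
    · exact h
  have hmain := bound_of_normal_prime (p := p) (QuotientGroup.kerLift ρ) (QuotientGroup.kerLift_injective ρ)
    (by rw [hdim]; exact hj1) hirr A hA
  exact hmain.trans (Nat.mul_le_mul_left _ hle)

/-- The statement with a real logarithm. -/
theorem classes_ge_logb {p : ℕ} [Fact p.Prime] (G : Type u) [Group G] [Finite G] [Group.IsSolvable G]
    (h : p ∣ (fittingSubgroup G).index) : (p : ℝ) / (3 * Real.logb 2 p) ≤ Nat.card (ConjClasses G) := by
  have hp : p.Prime := Fact.out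
  have h1 := classes_ge_log (p := p) _ G rfl h
  have hl : (Nat.log 2 p : ℝ) ≤ Real.logb 2 p := by exact_mod_cast Real.natLog_le_logb p 2
  have hl1 : (1 : ℝ) ≤ Nat.log 2 p := by
    exact_mod_cast Nat.le_log_of_pow_le one_lt_two (by simpa using hp.two_le)
  rw [div_le_iff₀ (by linarith)]
  have h2 : (p : ℝ) ≤ 3 * (Nat.log 2 p : ℝ) * Nat.card (ConjClasses G) := by exact_mod_cast h1
  nlinarith [Nat.cast_nonneg (α := ℝ) (Nat.card (ConjClasses G))]

end CfsgLib.ClassesLower
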